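import Cfsg.Agent.H84.TwF4Two

/-!
# Moving the elements of `²F₄(q)` into long cells

`S : Full σ G`: every non-trivial element is conjugate into `n U` with `n` a reflection `j ↦ 2 - j` or `j ↦ -j` or
the rotation `j ↦ 8 + j`.
-/

set_option autoImplicit false
set_option linter.unusedSectionVars false

namespace Cfsg.Agent.H84.GaussTwF4

open Cfsg.Agent.SplitTwo Cfsg.Agent.SplitTwo.ZS Cfsg.Agent.TitsThree.RankTwoZ
open Cfsg.Agent.KFacts.TwF4 Cfsg.Agent.KFacts.TwF4.Arc Cfsg.Agent.KFacts.TwF4.Inv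
open Cfsg.Agent.H84.TwF4Two

universe u

variable {F : Type*} [Field F] {σ : F →+* F} {G : Type u} [Group G] {S : Full σ G}

/-- conjugate to an element of the cell of the rotation `j ↦ c + j` -/
def CO (S : Full σ G) (c : ℤ) (t : G) : Prop := ∃ n, Rota S c n ∧ ∃ u ∈ J S.XZ 1 8, Cj t (n * u)

theorem rota_per' {c : ℤ} {n : G} (h : Rota S (c + 16) n) : Rota S c n := by
  intro j x
  have := h j x
  rwa [show c + 16 + j = (c + j) + 16 by ring, XZ_per] at this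

theorem rota_conj_n2 {c : ℤ} {n : G} (h : Rota S c n) : Rota S (-c) (S.n2⁻¹ * n * S.n2) := by
  have hr := S.n2_refl
  intro j x
  rw [hr j x, h (8 - j) (S.n2 * x * S.n2⁻¹), hr.inv (c + (8 - j)) _, show 8 - (c + (8 - j)) = -c + j by ring,
    show S.n2⁻¹ * (n * (S.n2 * x * S.n2⁻¹) * n⁻¹) * S.n2⁻¹⁻¹ = S.n2⁻¹ * n * S.n2 * x * (S.n2⁻¹ * n * S.n2)⁻¹ by group]

theorem rota_conj_n1 {c : ℤ} {n : G} (h : Rota S c n) : Rota S (-c) (S.n1⁻¹ * n * S.n1) := by
  have hr := S.n1_refl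
  intro j x
  rw [hr j x, h (10 - j) (S.n1 * x * S.n1⁻¹), hr.inv (c + (10 - j)) _, show 10 - (c + (10 - j)) = -c + j by ring,
    show S.n1⁻¹ * (n * (S.n1 * x * S.n1⁻¹) * n⁻¹) * S.n1⁻¹⁻¹ = S.n1⁻¹ * n * S.n1 * x * (S.n1⁻¹ * n * S.n1)⁻¹ by group]

theorem rota_refl_mul {c d : ℤ} {m n : G} (h : Rota S c m) (h' : Refl S.XZ d n) : Refl S.XZ (c + d) (m * n) := by
  intro j x
  rw [h' j x, h (d - j) (n * x * n⁻¹), show c + (d - j) = c + d - j by ring,
    show m * (n * x * n⁻¹) * m⁻¹ = m * n * x * (m * n)⁻¹ by group]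

/-- rotation cell, the `X_8`-component is not trivial -/
theorem rot_up8 {t n x u' : G} {c : ℤ} (hn : Rota S c n) (h0 : 0 ≤ c) (h7 : c ≤ 7) (hx : x ∈ S.XZ 8) (hx1 : x ≠ 1)
    (hu' : u' ∈ J S.XZ 1 7) (ht : Cj t (n * (x * u'))) : Cell S (8 - c) t := by
  have hr := S.n2_refl
  have h3 : S.n2⁻¹ * x * S.n2 ∈ S.XZ 0 := hr.mem_inv hx (by norm_num)
  have h4 : S.n2⁻¹ * u' * S.n2 ∈ J S.XZ 1 7 := hr.mem_J_inv hu' (by norm_num) (by norm_num)
  have h5 : S.n2⁻¹ * x * S.n2 ≠ 1 := by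
    intro h
    apply hx1
    have e : x = S.n2 * (S.n2⁻¹ * x * S.n2) * S.n2⁻¹ := by group
    rw [e, h]; group
  obtain ⟨v, hv, v', hv', hm⟩ := S.zsys8.mu 0 _ h3 h5
  have e8 : S.XZ (0 - 8) = S.XZ 8 := by
    have := XZ_per S (0 - 8)
    rw [show (0 : ℤ) - 8 + 16 = 8 by norm_num] at this
    exact this.symm
  rw [e8] at hv hv'
  have hm' : Refl S.XZ 8 (v * (S.n2⁻¹ * x * S.n2) * v') := by
    have := refl_per hm
    rwa [show 2 * (0 : ℤ) - 8 + 16 = 8 by norm_num] at this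
  set m := v * (S.n2⁻¹ * x * S.n2) * v' with hmdef
  have hn' := rota_conj_n2 hn
  set n' := S.n2⁻¹ * n * S.n2 with hn'def
  have hnm : Refl S.XZ (8 - c) (n' * m) := by
    have := rota_refl_mul hn' hm'
    rwa [show -c + 8 = 8 - c by ring] at this
  have hvn : n' * v⁻¹ * n'⁻¹ ∈ S.XZ (8 - c) := by
    have := hn'.mem (inv_mem hv)
    rwa [show -c + 8 = 8 - c by ring] at this
  refine cell_of (n := n' * m) (a := n' * v⁻¹ * n'⁻¹) (b := v'⁻¹ * (S.n2⁻¹ * u' * S.n2)) hnm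
    (mem_J hvn (by omega) (by omega)) (mul_mem (inv_mem (mem_J hv' (by norm_num) le_rfl))
    (J_mono le_rfl (by norm_num) h4)) ?_
  exact ht.trans ⟨S.n2⁻¹, by rw [hmdef, hn'def]; group⟩

/-- rotation cell, the `X_1`-component is not trivial -/
theorem rot_up1 {t n x u' : G} {c : ℤ} (hn : Rota S (-c) n) (h0 : 0 ≤ c) (h7 : c ≤ 7) (hx : x ∈ S.XZ 1) (hx1 : x ≠ 1)
    (hu' : u' ∈ J S.XZ 2 8) (ht : Cj t (n * (x * u'))) : Cell S (c + 10) t := by
  have hr := S.n1_refl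
  have h3 : S.n1⁻¹ * x * S.n1 ∈ S.XZ 9 := hr.mem_inv hx (by norm_num)
  have h4 : S.n1⁻¹ * u' * S.n1 ∈ J S.XZ 2 8 := hr.mem_J_inv hu' (by norm_num) (by norm_num)
  have h5 : S.n1⁻¹ * x * S.n1 ≠ 1 := by
    intro h
    apply hx1
    have e : x = S.n1 * (S.n1⁻¹ * x * S.n1) * S.n1⁻¹ := by group
    rw [e, h]; group
  obtain ⟨v, hv, v', hv', hm⟩ := S.zsys8.mu 9 _ h3 h5
  rw [show (9 : ℤ) - 8 = 1 by norm_num] at hv hv'
  set m := v * (S.n1⁻¹ * x * S.n1) * v' with hmdef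
  have hn' := rota_conj_n1 hn
  rw [neg_neg] at hn'
  set n' := S.n1⁻¹ * n * S.n1 with hn'def
  have hnm : Refl S.XZ (c + 10) (n' * m) := by
    have := rota_refl_mul hn' hm
    rwa [show c + (2 * 9 - 8) = c + 10 by ring] at this
  have hvn : n' * v⁻¹ * n'⁻¹ ∈ S.XZ (c + 1) := hn'.mem (inv_mem hv)
  refine cell_of (n := n' * m) (a := n' * v⁻¹ * n'⁻¹) (b := v'⁻¹ * (S.n1⁻¹ * u' * S.n1)) hnm
    (mem_J hvn (by omega) (by omega)) (mul_mem (inv_mem (mem_J hv' le_rfl (by norm_num)))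
    (J_mono (by norm_num) le_rfl h4)) ?_
  exact ht.trans ⟨S.n1⁻¹, by rw [hmdef, hn'def]; group⟩

theorem exists_ne8 (x : G) : ∃ y ∈ S.XZ 8, x * y⁻¹ ≠ 1 := by
  obtain ⟨y, hy, hy1⟩ := S.zsys8.exists_ne 8
  by_cases h : x = 1
  · exact ⟨y, hy, by rw [h, one_mul, Ne, inv_eq_one]; exact hy1⟩
  · exact ⟨1, one_mem _, by simpa using h⟩

theorem exists_ne1 (x : G) : ∃ y ∈ S.XZ 1, x * y⁻¹ ≠ 1 := by
  obtain ⟨y, hy, hy1⟩ := S.zsys8.exists_ne 1
  by_cases h : x = 1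
  · exact ⟨y, hy, by rw [h, one_mul, Ne, inv_eq_one]; exact hy1⟩
  · exact ⟨1, one_mem _, by simpa using h⟩

theorem conj17 {x u : G} (hx : x ∈ J S.XZ 1 8) (hu : u ∈ J S.XZ 1 7) : x * u * x⁻¹ ∈ J S.XZ 1 7 :=
  S.zsys8.conj_J (a := 1) (b := 7) (by norm_num) (by norm_num) (by norm_num) hx hu

theorem conj28 {x u : G} (hx : x ∈ J S.XZ 1 8) (hu : u ∈ J S.XZ 2 8) : x * u * x⁻¹ ∈ J S.XZ 2 8 :=
  S.zsys8.conj_J (a := 2) (b := 8) (by norm_num) (by norm_num) (by norm_num) hx hu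

theorem co_up8 {t : G} {c : ℤ} (h : CO S c t) (h0 : 1 ≤ c) (h7 : c ≤ 7) : Cell S (8 - c) t := by
  obtain ⟨n, hn, u, hu, ht⟩ := h
  obtain ⟨x, hx, u', hu', rfl⟩ := S.zsys8.split_rl (a := 1) (b := 8) (by norm_num) (by norm_num) hu
  obtain ⟨y, hy, hy1⟩ := exists_ne8 (S := S) x
  have hni : n⁻¹ * y * n ∈ J S.XZ 1 7 := by
    have h1 := (rota_inv hn).mem hy
    rw [inv_inv] at h1
    exact mem_J h1 (by omega) (by omega)
  have hxy : x * y⁻¹ ∈ S.XZ 8 := mul_mem hx (inv_mem hy)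
  have k1 : (x * y⁻¹)⁻¹ * (n⁻¹ * y * n) * (x * y⁻¹) ∈ J S.XZ 1 7 := by
    have := conj17 (mem_J (inv_mem hxy) (by norm_num) le_rfl) hni
    rwa [inv_inv] at this
  have k2 : y * u' * y⁻¹ ∈ J S.XZ 1 7 := conj17 (mem_J hy (by norm_num) le_rfl) hu'
  refine rot_up8 hn (by omega) h7 hxy hy1 (mul_mem k1 k2) (ht.trans ⟨y, ?_⟩)
  group

theorem co_up1 {t : G} {c : ℤ} (h : CO S (-c) t) (h0 : 1 ≤ c) (h7 : c ≤ 7) : Cell S (c + 10) t := by
  obtain ⟨n, hn, u, hu, ht⟩ := h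
  obtain ⟨x, hx, u', hu', rfl⟩ := S.zsys8.split_ll (a := 1) (b := 8) (by norm_num) (by norm_num) hu
  obtain ⟨y, hy, hy1⟩ := exists_ne1 (S := S) x
  have hni : n⁻¹ * y * n ∈ J S.XZ 2 8 := by
    have h1 := (rota_inv hn).mem hy
    rw [inv_inv] at h1
    exact mem_J h1 (by omega) (by omega)
  have hxy : x * y⁻¹ ∈ S.XZ 1 := mul_mem hx (inv_mem hy)
  have k1 : (x * y⁻¹)⁻¹ * (n⁻¹ * y * n) * (x * y⁻¹) ∈ J S.XZ 2 8 := by
    have := conj28 (mem_J (inv_mem hxy) le_rfl (by norm_num)) hni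
    rwa [inv_inv] at this
  have k2 : y * u' * y⁻¹ ∈ J S.XZ 2 8 := conj28 (mem_J hy le_rfl (by norm_num)) hu'
  refine rot_up1 hn (by omega) h7 hxy hy1 (mul_mem k1 k2) (ht.trans ⟨y, ?_⟩)
  group

/-! ### the reflections -/

theorem cell10 {t : G} (h1 : Cell S 10 t) : Cell S 2 t := by
  have h2 : Cell S 6 t := cell_n2 h1 (by norm_num) (by norm_num) (by norm_num)
  have h3 : Cell S 14 t := cell_n1 h2 (k := 5) (by norm_num) (by norm_num) (by norm_num) (by norm_num)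
  exact cell_n2 h3 (by norm_num) (by norm_num) (by norm_num)

theorem cell6 {t : G} (h2 : Cell S 6 t) : Cell S 2 t := by
  have h3 : Cell S 14 t := cell_n1 h2 (k := 5) (by norm_num) (by norm_num) (by norm_num) (by norm_num)
  exact cell_n2 h3 (by norm_num) (by norm_num) (by norm_num)

theorem cell14 {t : G} (h3 : Cell S 14 t) : Cell S 2 t :=
  cell_n2 h3 (by norm_num) (by norm_num) (by norm_num)

theorem cell8 {t : G} (h1 : Cell S 8 t) : Cell S 16 t := by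
  have h2 : Cell S 12 t := cell_n1 h1 (k := 3) (by norm_num) (by norm_num) (by norm_num) (by norm_num)
  have h3 : Cell S 4 t := cell_n2 h2 (by norm_num) (by norm_num) (by norm_num)
  exact cell_n1 h3 (k := 7) (by norm_num) (by norm_num) (by norm_num) (by norm_num)

theorem cell12 {t : G} (h2 : Cell S 12 t) : Cell S 16 t := by
  have h3 : Cell S 4 t := cell_n2 h2 (by norm_num) (by norm_num) (by norm_num)
  exact cell_n1 h3 (k := 7) (by norm_num) (by norm_num) (by norm_num) (by norm_num)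

theorem cell4 {t : G} (h3 : Cell S 4 t) : Cell S 16 t :=
  cell_n1 h3 (k := 7) (by norm_num) (by norm_num) (by norm_num) (by norm_num)

theorem cell_per {t : G} {c : ℤ} (h : Cell S c t) : Cell S (c + 16) t := by
  obtain ⟨n, hn, r⟩ := h
  exact ⟨n, refl_per hn, r⟩

/-- the normal forms of the elements -/
def Long (S : Full σ G) (t : G) : Prop := Cell S 2 t ∨ Cell S 16 t ∨ CO S 8 t

theorem long_cell {t : G} {k : ℤ} (h0 : 0 ≤ k) (h7 : k ≤ 7) (h : Cell S (2 * k) t) : Long S t := by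
  interval_cases k
  · exact Or.inr (Or.inl (by have := cell_per h; simpa using this))
  · exact Or.inl h
  · exact Or.inr (Or.inl (cell4 h))
  · exact Or.inl (cell6 h)
  · exact Or.inr (Or.inl (cell8 h))
  · exact Or.inl (cell10 h)
  · exact Or.inr (Or.inl (cell12 h))
  · exact Or.inl (cell14 h)

/-! ### the trivial rotation -/

theorem co_zero {t : G} (h1 : t ≠ 1) (h : CO S 0 t) : Long S t := by
  obtain ⟨n, hn, u, hu, ht⟩ := h
  have hT := mem_T_of_rota hn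
  by_cases hA : ∃ x ∈ S.XZ 8, x ≠ 1 ∧ ∃ u' ∈ J S.XZ 1 7, Cj t (n * (x * u'))
  · obtain ⟨x, hx, hx1, u', hu', h2⟩ := hA
    have := rot_up8 hn le_rfl (by norm_num) hx hx1 hu' h2
    exact Or.inr (Or.inl (cell8 (by simpa using this)))
  by_cases hB : ∃ x ∈ S.XZ 1, x ≠ 1 ∧ ∃ u' ∈ J S.XZ 2 8, Cj t (n * (x * u'))
  · obtain ⟨x, hx, hx1, u', hu', h2⟩ := hB
    have := rot_up1 (c := 0) (by simpa using hn) le_rfl (by norm_num) hx hx1 hu' h2
    exact Or.inl (cell10 (by simpa using this))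
  have c8 : ∀ y ∈ S.XZ 8, n⁻¹ * y * n = y := by
    obtain ⟨x, hx, u', hu', rfl⟩ := S.zsys8.split_rl (a := 1) (b := 8) (by norm_num) (by norm_num) hu
    have key : ∀ y ∈ S.XZ 8, n⁻¹ * y * n * x * y⁻¹ = 1 := by
      intro y hy
      by_contra hne
      exact hA ⟨_, mul_mem (mul_mem (S.T_conj' hT 8 hy) hx) (inv_mem hy), hne, _,
        conj17 (mem_J hy (by norm_num) le_rfl) hu', ht.trans ⟨y, by group⟩⟩
    have hx1 : x = 1 := by simpa using key 1 (one_mem _)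
    intro y hy
    have := key y hy
    rwa [hx1, mul_one, mul_inv_eq_one] at this
  have c1 : ∀ y ∈ S.XZ 1, n⁻¹ * y * n = y := by
    obtain ⟨x, hx, u', hu', rfl⟩ := S.zsys8.split_ll (a := 1) (b := 8) (by norm_num) (by norm_num) hu
    have key : ∀ y ∈ S.XZ 1, n⁻¹ * y * n * x * y⁻¹ = 1 := by
      intro y hy
      by_contra hne
      exact hB ⟨_, mul_mem (mul_mem (S.T_conj' hT 1 hy) hx) (inv_mem hy), hne, _,
        conj28 (mem_J hy le_rfl (by norm_num)) hu', ht.trans ⟨y, by group⟩⟩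
    have hx1 : x = 1 := by simpa using key 1 (one_mem _)
    intro y hy
    have := key y hy
    rwa [hx1, mul_one, mul_inv_eq_one] at this
  have hn1 : n = 1 := by
    obtain ⟨c, d, rfl⟩ := S.mem_T.1 hT
    have e8 : S.h c d * S.e 4 1 0 * (S.h c d)⁻¹ = S.e 4 1 0 := by
      have h2 := c8 _ (by have := S.e_mem 4 1 0; push_cast at this; exact this)
      calc S.h c d * S.e 4 1 0 * (S.h c d)⁻¹ = S.h c d * ((S.h c d)⁻¹ * S.e 4 1 0 * S.h c d) * (S.h c d)⁻¹ := by rw [h2]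
        _ = _ := by group
    have e1 : S.h c d * S.o 0 1 * (S.h c d)⁻¹ = S.o 0 1 := by
      have h2 := c1 _ (by have := S.o_mem 0 1; push_cast at this; exact this)
      calc S.h c d * S.o 0 1 * (S.h c d)⁻¹ = S.h c d * ((S.h c d)⁻¹ * S.o 0 1 * S.h c d) * (S.h c d)⁻¹ := by rw [h2]
        _ = _ := by group
    rw [S.h_e, mul_one, mul_zero] at e8
    rw [S.h_o, mul_one] at e1
    have k8 : c⁻¹ = 1 := Units.ext (S.injE 4 _ _ _ _ e8).1
    have k1 : c * d = 1 := Units.ext (S.injO 0 e1)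
    have hc : c = 1 := inv_eq_one.1 k8
    have hd : d = 1 := by rwa [hc, one_mul] at k1
    rw [hc, hd, S.h_one]
  rw [hn1, one_mul] at ht
  rcases cell_long h1 (by obtain ⟨k, hk⟩ := ht; exact ⟨k, by rw [hk]; exact hu⟩) with h | h
  · exact Or.inl h
  · exact Or.inr (Or.inl h)

theorem long_co {t : G} (h1 : t ≠ 1) {k : ℤ} (h0 : 0 ≤ k) (h7 : k ≤ 7) (h : CO S (2 * k) t) : Long S t := by
  have hper : ∀ c, CO S (c + 16) t → CO S c t := fun c ⟨n, hn, r⟩ => ⟨n, rota_per' hn, r⟩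
  interval_cases k
  · exact co_zero h1 (by simpa using h)
  · have := co_up8 h (by norm_num) (by norm_num)
    exact Or.inl (cell6 (by simpa using this))
  · have := co_up8 h (by norm_num) (by norm_num)
    exact Or.inr (Or.inl (cell4 (by simpa using this)))
  · have := co_up8 h (by norm_num) (by norm_num)
    exact Or.inl (by simpa using this)
  · exact Or.inr (Or.inr (by simpa using h))
  · have := co_up1 (c := 6) (hper _ (by simpa using h)) (by norm_num) (by norm_num)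
    exact Or.inr (Or.inl (by simpa using this))
  · have := co_up1 (c := 4) (hper _ (by simpa using h)) (by norm_num) (by norm_num)
    exact Or.inl (cell14 (by simpa using this))
  · have := co_up1 (c := 2) (hper _ (by simpa using h)) (by norm_num) (by norm_num)
    exact Or.inr (Or.inl (cell12 (by simpa using this)))

/-! ### all elements -/

theorem rota_of_maps {w : G} {c : ℤ} (h : Maps S.R.X w (fun k => (c : ZMod (2 * 8)) + k)) : Rota S c w := by
  intro j x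
  show x ∈ S.R.X _ ↔ w * x * w⁻¹ ∈ S.R.X _
  rw [Int.cast_add]
  exact (h _ x).symm

theorem refl_of_maps {w : G} {c : ℤ} (h : Maps S.R.X w (fun k => (c : ZMod (2 * 8)) - k)) : Refl S.XZ c w := by
  intro j x
  show x ∈ S.R.X _ ↔ w * x * w⁻¹ ∈ S.R.X _
  rw [Int.cast_sub]
  exact (h _ x).symm

/-- **Every non-trivial element is conjugate into a long cell.** -/
theorem long_of_ne {t : G} (h1 : t ≠ 1) : Long S t := by
  obtain ⟨b, hb, s, hs, w, hw, b', hb', rfl⟩ := S.bruhatE t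
  have hc : Cj (b * s * w * b') (s * w * (b' * b)) := by
    have := cj_swap (a := b) (n := s * w) (b := b')
    rwa [show b * (s * w) * b' = b * s * w * b' by group] at this
  obtain ⟨c, hc'⟩ := hw
  have hcc : ((2 * c : ℤ) : ZMod (2 * 8)) = ((2 * (c % 8) : ℤ) : ZMod (2 * 8)) := by
    rw [ZMod.intCast_eq_intCast_iff]
    show (2 * c) % ((2 * 8 : ℕ) : ℤ) = (2 * (c % 8)) % ((2 * 8 : ℕ) : ℤ)
    push_cast
    omega
  rw [hcc] at hc'
  rcases hc' with h | h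
  · have h2 : Rota S (2 * (c % 8)) (s * w) := rota_of_maps ((Maps.mul hs h).congr fun k => rfl)
    exact long_co h1 (by omega) (by omega) ⟨_, h2, _, mul_mem hb' hb, hc⟩
  · have h2 : Refl S.XZ (2 * (c % 8)) (s * w) := refl_of_maps ((Maps.mul hs h).congr fun k => rfl)
    exact long_cell (k := c % 8) (by omega) (by omega) ⟨_, h2, _, mul_mem hb' hb, hc⟩

end Cfsg.Agent.H84.GaussTwF4
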