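import Mathlib

/-! A class of elements of odd order whose square covers the non-trivial elements. -/

set_option autoImplicit false

namespace Cfsg.Agent.H84

/-- there is an element of odd order such that each non-trivial element is a product of two conjugates of it -/
def Cov (M : Type*) [Group M] : Prop :=
  ∃ x : M, Odd (orderOf x) ∧ ∀ g : M, g ≠ 1 → ∃ u v : M, g = (u * x * u⁻¹) * (v * x * v⁻¹)

theorem Cov.transfer {M N : Type*} [Group M] [Group N] (f : M ≃* N) (h : Cov N) : Cov M := by
  obtain ⟨x, hx, hc⟩ := h
  refine ⟨f.symm x, ?_, ?_⟩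
  · have : orderOf (f.symm x) = orderOf x := orderOf_injective f.symm.toMonoidHom f.symm.injective x
    rw [this]; exact hx
  · intro g hg
    obtain ⟨u, v, h⟩ := hc (f g) (fun h => hg (f.injective (h.trans (map_one f).symm)))
    refine ⟨f.symm u, f.symm v, ?_⟩
    have h1 := congrArg f.symm h
    rw [MulEquiv.symm_apply_apply] at h1
    rw [h1]
    simp only [map_mul, map_inv]

theorem Cov.transfer_commutator {Γ : Type*} [Group Γ] (K : Subgroup Γ) {M : Type*} [Group M]
    (f : M ≃* commutator K) (h : Cov (commutator K)) : Cov M := h.transfer f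

end Cfsg.Agent.H84
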