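import Cfsg.Agent.H84.TitsCov
import Cfsg.Agent.H84.CovDef

/-!
# The elements of order five of `²F₄(2)` are conjugate under the Tits group
-/

set_option autoImplicit false

namespace Cfsg.Agent.H84.TitsConj

open Cfsg.Agent.ChevalleyStructure.Tits.Pack Cfsg.Agent.ChevalleyStructure.Tits.Data
  Cfsg.Agent.ChevalleyStructure.Tits.Cert Cfsg.Agent.ChevalleyStructure.Tits.Rank2
  Cfsg.Agent.ChevalleyStructure.Tits.Sat Cfsg.Agent.ChevalleyStructure.Tits.Final
  Cfsg.Agent.ChevalleyStructure.Tits.Mat Cfsg.Agent.ChevalleyStructure.Tits.Order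
  Cfsg.Agent.ChevalleyStructure.Tits.Table Cfsg.Agent.ChevalleyStructure.Tits.Main
open Cfsg.Agent.H246.TitsComp hiding go go_ok go_zero go_succ_even go_succ_odd sound
open Cfsg.Agent.H84.TitsCovData Cfsg.Agent.H84.TitsCovChk Cfsg.Agent.H84.TitsCov

open scoped MatrixGroups

/-- an element of order five -/
noncomputable def f1 : H0 := WH [9, 7, 7]
/-- an element of order five commuting with `f1` -/
noncomputable def f2 : H0 := WH [8, 9, 8, 9, 7, 7, 8, 9, 8]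

theorem WH_pow (l : List ℕ) (n : ℕ) : WH l ^ n = WH (List.replicate n l).flatten := by
  induction n with
  | zero => unfold WH; simp
  | succ n ih => rw [pow_succ', ih, List.replicate_succ, List.flatten_cons, WH_append]

theorem WH_pw (i j : ℕ) : WH (pw i j) = f1 ^ i * f2 ^ j := by
  unfold pw f1 f2
  rw [WH_append, WH_pow, WH_pow]

theorem pw_lt : ∀ i < 5, ∀ j < 5, ((pw i j).all fun i => Nat.blt i 10) = true := by decide

theorem O5_pw : ((List.range 5).all fun i => ord5 (evalW (pw i 1))) = true := by decide +kernel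

theorem O5_f1 : O5 f1 := O5_of (coe_WH (l := [9, 7, 7]) (by decide)) (by decide +kernel)

theorem O5_mul (i : ℕ) (hi : i < 5) : O5 (f1 ^ i * f2) := by
  have h := List.all_eq_true.1 O5_pw i (List.mem_range.2 hi)
  have h2 := O5_of (coe_WH (l := pw i 1) (pw_lt i hi 1 (by norm_num))) h
  rwa [WH_pw, pow_one] at h2

theorem O5_f2 : O5 f2 := by
  have := O5_mul 0 (by norm_num)
  rwa [pow_zero, one_mul] at this

theorem f_comm : f1 * f2 = f2 * f1 := by
  unfold f1 f2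
  rw [← WH_append, ← WH_append]
  exact WH_eq (by decide) (by decide) (by decide +kernel)

theorem zp_cases {x : H0} (hx : x ∈ Subgroup.zpowers f1) : ∃ i < 5, x = f1 ^ i :=
  mem_zpowers_cases (by norm_num) O5_f1.1 hx

theorem f2_notMem : f2 ∉ Subgroup.zpowers f1 := by
  intro h
  obtain ⟨i, hi, h2⟩ := zp_cases h
  have h3 := (O5_mul ((5 - i) % 5) (Nat.mod_lt _ (by norm_num))).2
  apply h3
  rw [h2, ← pow_add]
  have h5 := O5_f1.1
  interval_cases i
  · simp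
  all_goals simpa using h5

theorem f2_pow_notMem {i : ℕ} (h0 : 0 < i) (h5 : i < 5) : f2 ^ i ∉ Subgroup.zpowers f1 := by
  intro h
  apply f2_notMem
  have e : ∃ j, (f2 ^ i) ^ j = f2 := by
    have hf := O5_f2.1
    have e6 : f2 ^ 6 = f2 := by rw [pow_succ, hf, one_mul]
    have e16 : f2 ^ 16 = f2 := by
      have : f2 ^ 16 = (f2 ^ 5) ^ 3 * f2 := by rw [← pow_mul, ← pow_succ]
      rw [this, hf, one_pow, one_mul]
    interval_cases i
    · exact ⟨1, by rw [pow_one, pow_one]⟩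
    · exact ⟨3, by rw [← pow_mul]; exact e6⟩
    · exact ⟨2, by rw [← pow_mul]; exact e6⟩
    · exact ⟨4, by rw [← pow_mul]; exact e16⟩
  obtain ⟨j, hj⟩ := e
  rw [← hj]
  exact Subgroup.pow_mem _ h j

theorem mod5 {x : H0} (hx : x ^ 5 = 1) (n : ℕ) : x ^ n = x ^ (n % 5) := by
  conv_lhs => rw [← Nat.div_add_mod n 5]
  rw [pow_add, pow_mul, hx, one_pow, one_mul]

theorem comm_pow {G : Type*} [Group G] {a b : G} (h : a * b = b * a) (i j : ℕ) : b ^ j * a ^ i = a ^ i * b ^ j := by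
  have : Commute b a := h.symm
  exact (this.pow_pow j i).eq

theorem comm_pow1 {a b : H0} (h : a * b = b * a) (i j : ℕ) : b ^ j * a ^ i = a ^ i * b ^ j := by
  have h' := @comm_pow H0 _ a b
  have := h' h i j
  exact this

theorem f_comm' (i j : ℕ) : f2 ^ j * f1 ^ i = f1 ^ i * f2 ^ j := comm_pow1 f_comm i j

/-- the Sylow 5-subgroup -/
def P : Subgroup H0 where
  carrier := {g | ∃ i < 5, ∃ j < 5, g = f1 ^ i * f2 ^ j}
  one_mem' := ⟨0, by norm_num, 0, by norm_num, by simp⟩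
  mul_mem' := by
    rintro _ _ ⟨i, hi, j, hj, rfl⟩ ⟨k, hk, l, hl, rfl⟩
    refine ⟨(i + k) % 5, Nat.mod_lt _ (by norm_num), (j + l) % 5, Nat.mod_lt _ (by norm_num), ?_⟩
    rw [← mod5 O5_f1.1 (i + k), ← mod5 O5_f2.1 (j + l), pow_add, pow_add]
    calc f1 ^ i * f2 ^ j * (f1 ^ k * f2 ^ l) = f1 ^ i * (f2 ^ j * f1 ^ k) * f2 ^ l := by group
      _ = _ := by rw [f_comm']; group
  inv_mem' := by
    rintro _ ⟨i, hi, j, hj, rfl⟩
    refine ⟨(4 * i) % 5, Nat.mod_lt _ (by norm_num), (4 * j) % 5, Nat.mod_lt _ (by norm_num), ?_⟩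
    rw [← mod5 O5_f1.1 (4 * i), ← mod5 O5_f2.1 (4 * j)]
    apply inv_eq_of_mul_eq_one_left
    calc f1 ^ (4 * i) * f2 ^ (4 * j) * (f1 ^ i * f2 ^ j) = f1 ^ (4 * i) * (f2 ^ (4 * j) * f1 ^ i) * f2 ^ j := by group
      _ = (f1 ^ (4 * i) * f1 ^ i) * (f2 ^ (4 * j) * f2 ^ j) := by rw [f_comm']; group
      _ = f1 ^ (5 * i) * f2 ^ (5 * j) := by
        rw [← pow_add, ← pow_add]
        congr 2 <;> ring
      _ = 1 := by rw [pow_mul, pow_mul, O5_f1.1, O5_f2.1, one_pow, one_pow, one_mul]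

theorem card_P : Nat.card P = 25 := by
  apply le_antisymm
  · have h : Function.Surjective (fun p : Fin 5 × Fin 5 => (⟨f1 ^ (p.1 : ℕ) * f2 ^ (p.2 : ℕ),
        p.1, p.1.2, p.2, p.2.2, rfl⟩ : P)) := by
      rintro ⟨g, i, hi, j, hj, rfl⟩
      exact ⟨(⟨i, hi⟩, ⟨j, hj⟩), rfl⟩
    have h2 := Nat.card_le_card_of_surjective _ h
    rwa [Nat.card_prod, Nat.card_eq_fintype_card (α := Fin 5), Fintype.card_fin] at h2
  · have h1 : Subgroup.zpowers f1 ≤ P := by
      rw [Subgroup.zpowers_le]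
      exact ⟨1, by norm_num, 0, by norm_num, by simp⟩
    have h2 : f2 ∈ P := ⟨0, by norm_num, 1, by norm_num, by simp⟩
    have h3 := card_lower h1 h2 5 fun i h0 h5 => f2_pow_notMem h0 h5
    have : Fact (Nat.Prime 5) := ⟨by norm_num⟩
    rw [Nat.card_zpowers, orderOf_eq_prime O5_f1.1 O5_f1.2] at h3
    exact h3

/-- the Sylow 5-subgroup -/
noncomputable def syl5 : Sylow 5 H0 :=
  haveI : Fact (Nat.Prime 5) := ⟨by norm_num⟩
  Sylow.ofCard P (by
    rw [card_P, card_H0]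
    have : (35942400 : ℕ) = 5 ^ 2 * 1437696 := by norm_num
    rw [this, Nat.factorization_mul (by norm_num) (by norm_num), Nat.Prime.factorization_pow (by norm_num)]
    have h2 : Nat.factorization 1437696 5 = 0 := Nat.factorization_eq_zero_of_not_dvd (by norm_num)
    simp [h2])

theorem exists_conj_P {t : H0} (ht : t ^ 5 = 1) : ∃ g : H0, g * t * g⁻¹ ∈ P := by
  have : Fact (Nat.Prime 5) := ⟨by norm_num⟩
  have hp : IsPGroup 5 (Subgroup.zpowers t) := by
    rintro ⟨x, k, rfl⟩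
    refine ⟨1, ?_⟩
    apply Subtype.ext
    show (t ^ k) ^ 5 ^ 1 = 1
    rw [← zpow_natCast, ← zpow_mul, mul_comm, zpow_mul, zpow_natCast, pow_one, ht, one_zpow]
  obtain ⟨Q, hQ⟩ := hp.exists_le_sylow
  obtain ⟨g, hg⟩ := MulAction.exists_smul_eq H0 Q syl5
  refine ⟨g, ?_⟩
  have h1 : t ∈ (Q : Subgroup H0) := hQ (Subgroup.mem_zpowers t)
  have h2 : (g • Q : Sylow 5 H0).toSubgroup = P := by rw [hg]; rfl
  rw [← h2, Sylow.coe_subgroup_smul]
  exact Subgroup.smul_mem_pointwise_smul t (MulAut.conj g) _ h1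

theorem conj_f1 {t : H0} (ht : O5 t) : ∃ g : H0, t = g * f1 * g⁻¹ := by
  obtain ⟨g, i, hi, j, hj, hg⟩ := exists_conj_P ht.1
  have hij : ¬ (i = 0 ∧ j = 0) := by
    rintro ⟨rfl, rfl⟩
    rw [pow_zero, pow_zero, mul_one, mul_inv_eq_one, mul_eq_left] at hg
    exact ht.2 hg
  have h1 := List.all_eq_true.1 (List.all_eq_true.1 fus_all i (List.mem_range.2 hi)) j (List.mem_range.2 hj)
  rw [Bool.or_eq_true] at h1
  have h2 : (fus.any fun c => c.1 == i && c.2.1 == j) = true := by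
    rcases h1 with h1 | h1
    · rw [Bool.and_eq_true, beq_iff_eq, beq_iff_eq] at h1
      exact absurd h1 hij
    · exact h1
  rw [List.any_eq_true] at h2
  obtain ⟨c, hc, h3⟩ := h2
  rw [Bool.and_eq_true, beq_iff_eq, beq_iff_eq] at h3
  have h4 := List.all_eq_true.1 fus_ok c hc
  rw [Bool.and_eq_true, h3.1, h3.2] at h4
  obtain ⟨h4, h5⟩ := h4
  have h6 := WH_eq (a := c.2.2 ++ [9, 7, 7]) (b := pw i j ++ c.2.2)
    (by rw [List.all_append, h5]; decide) (by rw [List.all_append, h5, pw_lt i hi j hj]; decide) h4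
  rw [WH_append, WH_append, WH_pw, ← hg] at h6
  refine ⟨g⁻¹ * WH c.2.2, ?_⟩
  have h7 : g * t * g⁻¹ = WH c.2.2 * f1 * (WH c.2.2)⁻¹ := by
    rw [eq_mul_inv_iff_mul_eq, ← h6]; rfl
  have e : t = g⁻¹ * (g * t * g⁻¹) * g := by group
  rw [e, h7]; group

theorem comm_y3 : yH 3 * f1 = f1 * yH 3 := by
  have h := WH_eq (a := [3, 9, 7, 7]) (b := [9, 7, 7, 3]) (by decide) (by decide) comm_ok
  have e1 : WH [3, 9, 7, 7] = yH 3 * f1 := by
    unfold WH f1 WH
    simp only [List.map_cons, List.map_nil, List.prod_cons, List.prod_nil, mul_one]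
  have e2 : WH [9, 7, 7, 3] = f1 * yH 3 := by
    unfold WH f1 WH
    simp only [List.map_cons, List.map_nil, List.prod_cons, List.prod_nil, mul_one, mul_assoc]
  rw [← e1, h, e2]

theorem O5_sign (χ : H0 →* ℤˣ) {t : H0} (ht : O5 t) : χ t = 1 := by
  have h := congrArg χ ht.1
  rw [map_pow, map_one] at h
  rcases Int.units_eq_one_or (χ t) with h3 | h3
  · exact h3
  · rw [h3] at h
    exact absurd h (by decide)

/-- conjugacy under the Tits group -/
theorem conj_comm {t : H0} (ht : O5 t) : ∃ g ∈ commutator H0, t = g * f1 * g⁻¹ := by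
  obtain ⟨χ, h0, h1⟩ := exists_chi
  have hm := mem_commutator_iff χ (h1 7 (by norm_num) (by norm_num))
  obtain ⟨g, hg⟩ := conj_f1 ht
  rcases Int.units_eq_one_or (χ g) with h3 | h3
  · exact ⟨g, (hm g).2 h3, hg⟩
  · refine ⟨g * yH 3, (hm _).2 ?_, ?_⟩
    · rw [map_mul, h3, h1 3 (by norm_num) (by norm_num)]; decide
    · have e : g * yH 3 * f1 * (g * yH 3)⁻¹ = g * (yH 3 * f1) * (yH 3)⁻¹ * g⁻¹ := by group
      rw [e, comm_y3, hg]; group

/-- the form of the elements to be covered -/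
def Form (t : GL I52 (ZMod 2)) : Prop :=
  ∃ k ∈ H0, ∃ w ∈ ww, ∃ v ∈ V yG 0, k * t * k⁻¹ = (w.map yG).prod * v

theorem ww_lt : ∀ w ∈ ww, (w.all fun i => Nat.blt i 10) = true := by decide

theorem cover_H0 {t : H0} (ht : t ∈ commutator H0) (hF : Form t) : ∃ a ∈ commutator H0, ∃ b ∈ commutator H0,
    t = (a * f1 * a⁻¹) * (b * f1 * b⁻¹) := by
  obtain ⟨χ, h0, h1⟩ := exists_chi
  have hm := mem_commutator_iff χ (h1 7 (by norm_num) (by norm_num))
  obtain ⟨k, hk, w, hw, v, hv, he⟩ := hF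
  rw [← map_V] at hv
  obtain ⟨v', hv', rfl⟩ := hv
  have he' : (⟨k, hk⟩ : H0) * t * (⟨k, hk⟩ : H0)⁻¹ = WH w * v' := by
    apply Subtype.ext
    rw [Subgroup.coe_mul (H := H0) (WH w) v', coe_WH' (ww_lt w hw)]
    exact he
  have hχ : χ (WH w * v') = 1 := by
    rw [← he', map_mul, map_mul, (hm t).1 ht, mul_one, map_inv, mul_inv_cancel]
  obtain ⟨y, hy, hyz⟩ := cover_word χ h0 h1 hw hv' hχ
  rw [← he'] at hyz
  set κ : H0 := ⟨k, hk⟩ with hκ
  have hy' : O5 (κ⁻¹ * y⁻¹ * κ) := by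
    constructor
    · have e : (κ⁻¹ * y⁻¹ * κ) ^ 5 = κ⁻¹ * (y ^ 5)⁻¹ * κ := by
        have := conj_pow (i := 5) (a := κ⁻¹) (b := y⁻¹)
        rw [inv_inv] at this
        rw [this, inv_pow]
      rw [e, hy.1]; group
    · intro h
      apply hy.2
      have e : y = (κ * (κ⁻¹ * y⁻¹ * κ) * κ⁻¹)⁻¹ := by group
      rw [e, h]; group
  have hz' : O5 (κ⁻¹ * (y * (κ * t * κ⁻¹)) * κ) := by
    constructor
    · have e : (κ⁻¹ * (y * (κ * t * κ⁻¹)) * κ) ^ 5 = κ⁻¹ * (y * (κ * t * κ⁻¹)) ^ 5 * κ := by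
        have := conj_pow (i := 5) (a := κ⁻¹) (b := (y * (κ * t * κ⁻¹)))
        rw [inv_inv] at this
        exact this
      rw [e, hyz.1]; group
    · intro h
      apply hyz.2
      have e : y * (κ * t * κ⁻¹) = κ * (κ⁻¹ * (y * (κ * t * κ⁻¹)) * κ) * κ⁻¹ := by group
      rw [e, h]; group
  obtain ⟨a, ha, ea⟩ := conj_comm hy'
  obtain ⟨b, hb, eb⟩ := conj_comm hz'
  refine ⟨a, ha, b, hb, ?_⟩
  rw [← ea, ← eb]
  group

theorem result_aux (K : Subgroup (GL I52 (ZMod 2))) (hK : K = H0) (hF : ∀ t ∈ K, t ≠ 1 → Form t) :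
    Cov (commutator K) := by
  subst hK
  obtain ⟨χ, h0, h1⟩ := exists_chi
  have hm := mem_commutator_iff χ (h1 7 (by norm_num) (by norm_num))
  have hf1 : f1 ∈ commutator H0 := (hm f1).2 (O5_sign χ O5_f1)
  refine ⟨⟨f1, hf1⟩, ?_, ?_⟩
  · have : Fact (Nat.Prime 5) := ⟨by norm_num⟩
    have h2 : orderOf (⟨f1, hf1⟩ : commutator H0) = 5 := by
      rw [← Subgroup.orderOf_coe]
      exact orderOf_eq_prime O5_f1.1 O5_f1.2
    rw [h2]; decide
  · intro g hg
    have h3 : ((g : H0) : GL I52 (ZMod 2)) ≠ 1 := fun h => hg (Subtype.ext (Subtype.ext h))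
    obtain ⟨a, ha, b, hb, h⟩ := cover_H0 g.2 (hF _ (g : H0).2 h3)
    exact ⟨⟨a, ha⟩, ⟨b, hb⟩, Subtype.ext h⟩

end Cfsg.Agent.H84.TitsConj
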