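import Cfsg.Agent.S2184
import Cfsg.Agent.H84.TitsConj
import Cfsg.Agent.H84.GaussTwF4

/-!
# The elements of `²F₄(2)` are conjugate into long cells: matrix form
-/

set_option autoImplicit false

namespace Cfsg.Agent.H84.TitsLink

open Cfsg.Agent.ChevalleyStructure.Tits.Pack Cfsg.Agent.ChevalleyStructure.Tits.Data
  Cfsg.Agent.ChevalleyStructure.Tits.Cert Cfsg.Agent.ChevalleyStructure.Tits.Rank2
  Cfsg.Agent.ChevalleyStructure.Tits.Sat Cfsg.Agent.ChevalleyStructure.Tits.Final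
  Cfsg.Agent.ChevalleyStructure.Tits.Mat Cfsg.Agent.ChevalleyStructure.Tits.Order
  Cfsg.Agent.ChevalleyStructure.Tits.Table Cfsg.Agent.ChevalleyStructure.Tits.Main
open Cfsg.Agent.SplitTwo Cfsg.Agent.SplitTwo.ZS Cfsg.Agent.TitsThree.RankTwoZ
open Cfsg.Agent.KFacts.TwF4 Cfsg.Agent.KFacts.TwF4.Arc Cfsg.Agent.KFacts.TwF4.Inv
open Cfsg.Agent.H84.TwF4Two Cfsg.Agent.H84.GaussTwF4
open Cfsg.Agent.KFacts.TwF4.Inst Cfsg.Agent.ChevalleyStructure.TwF4.TwistedFix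
open Cfsg.Lie

open scoped MatrixGroups

theorem hK0 : Fintype.card (ZMod 2) = 2 ^ (2 * 0 + 1) := by rw [ZMod.card]; norm_num

variable {φ : ZMod 2 →+* ZMod 2} (hφ : Rln φ (2 ^ 0))

/-- the coordinates of `²F₄(2)` -/
noncomputable abbrev S0 : Full φ ↥(twistedF4 (ZMod 2) (2 ^ 0)) := full hK0 hφ

/-- the matrix of an element -/
def cg (g : ↥(twistedF4 (ZMod 2) (2 ^ 0))) : GL I52 (ZMod 2) := g.1

theorem cg_mul (g h : ↥(twistedF4 (ZMod 2) (2 ^ 0))) : cg (g * h) = cg g * cg h := rfl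

theorem cg_o0 : cg ((S0 hφ).o 0 1) = yG 0 := by
  apply Units.ext
  have h : ((cg ((S0 hφ).o 0 1) : GL I52 (ZMod 2)) : Matrix I52 I52 (ZMod 2)) = XM 33 1 * XM 24 (φ 1) := rfl
  rw [h, coe_yG (by norm_num), ← mA, WM_cons, WM_cons, WM_nil, mul_one, map_one]

theorem cg_o4 : cg ((S0 hφ).o 4 1) = yG 10 := by
  apply Units.ext
  have h : ((cg ((S0 hφ).o 4 1) : GL I52 (ZMod 2)) : Matrix I52 I52 (ZMod 2)) = XM 14 1 * XM 23 (φ 1) := rfl
  rw [h, coe_yG (by norm_num), ← mA', WM_cons, WM_cons, WM_nil, mul_one, map_one]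

theorem cg_e4 : cg ((S0 hφ).e 4 1 0) = yG 7 := by
  apply Units.ext
  have h : ((cg ((S0 hφ).e 4 1 0) : GL I52 (ZMod 2)) : Matrix I52 I52 (ZMod 2)) =
    XM 27 1 * XM 25 (φ 1) * XM 28 (1 * φ 1 + 0) * XM 30 (φ 0) := rfl
  rw [h, coe_yG (by norm_num), ← mC, WM_cons, WM_cons, WM_cons, WM_cons, WM_nil, mul_one, map_one, map_zero,
    mul_one, add_zero]
  simp only [mul_assoc]

theorem cg_e0 : cg ((S0 hφ).e 0 1 0) = yG 11 := by
  apply Units.ext
  have h : ((cg ((S0 hφ).e 0 1 0) : GL I52 (ZMod 2)) : Matrix I52 I52 (ZMod 2)) =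
    XM 20 1 * XM 22 (φ 1) * XM 19 (1 * φ 1 + 0) * XM 17 (φ 0) := rfl
  rw [h, coe_yG (by norm_num), ← mC', WM_cons, WM_cons, WM_cons, WM_cons, WM_nil, mul_one, map_one, map_zero,
    mul_one, add_zero]
  simp only [mul_assoc]

theorem cg_n1 : cg (S0 hφ).n1 = yG 8 := by
  have e8 := er ([8], [0, 10, 0]) (by decide +kernel)
  simp only [List.map_cons, List.map_nil, List.prod_cons, List.prod_nil, mul_one] at e8
  rw [(S0 hφ).n1_word, cg_mul, cg_mul, cg_o0, cg_o4, e8, mul_assoc]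

theorem two_zero : (1 : ZMod 2) + 1 = 0 := by decide

theorem e_two (a : ZMod 8) : (S0 hφ).e a 0 1 = (S0 hφ).e a 1 0 * (S0 hφ).e a 1 0 := by
  rw [(S0 hφ).e_mul, map_one, mul_one, add_zero, zero_add, two_zero]

theorem e_three (a : ZMod 8) : (S0 hφ).e a 1 1 = (S0 hφ).e a 1 0 * (S0 hφ).e a 1 0 * (S0 hφ).e a 1 0 := by
  rw [← e_two, (S0 hφ).e_mul, zero_mul, add_zero, add_zero, zero_add]

theorem n2_gl {a b c : GL I52 (ZMod 2)} (ha : a ^ 4 = 1) (hb : b ^ 4 = 1)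
    (e9 : c = a * (a * (a * (b * (a * a))))) (h : c * c = 1) : a * a * (b * b * b) * a = c := by
  have h2 : a * a * (b * b * b) * a * c = 1 := by
    rw [e9]
    calc a * a * (b * b * b) * a * (a * (a * (a * (b * (a * a))))) =
        a * a * (b * b * b) * (a ^ 4) * b * (a * a) := by
          simp only [pow_succ, pow_zero, one_mul, mul_assoc]
      _ = a * a * (b ^ 4) * (a * a) := by
          rw [ha, mul_one]
          simp only [pow_succ, pow_zero, one_mul, mul_assoc]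
      _ = a ^ 4 := by
          rw [hb, mul_one]
          simp only [pow_succ, pow_zero, one_mul, mul_assoc]
      _ = 1 := ha
  exact mul_right_cancel (h2.trans h.symm)

theorem cg_n2 : cg (S0 hφ).n2 = yG 9 := by
  have e9 := er ([9], [7, 7, 7, 11, 7, 7]) (by decide +kernel)
  simp only [List.map_cons, List.map_nil, List.prod_cons, List.prod_nil, mul_one] at e9
  have e7 : yG 7 ^ 4 = 1 := pow_od Sat_yG (i := 7) (by norm_num)
  have e11 : yG 11 ^ 4 = 1 := by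
    apply Units.ext
    rw [Units.val_pow_eq_pow_val, coe_yG (by norm_num), Units.val_one]
    exact LM_pow4 11 (by norm_num)
  have h99 : yG 9 * yG 9 = 1 := by
    apply Units.ext
    have h : mulP (LP 9) (LP 9) = oneP := Nat.eq_of_beq_eq_true (by decide +kernel)
    rw [Units.val_mul, coe_yG (by norm_num), LM, ← toMat_mulP, h, toMat_oneP, Units.val_one]
  have h1 : cg (S0 hφ).n2 = yG 7 * yG 7 * (yG 11 * yG 11 * yG 11) * yG 7 := by
    rw [(S0 hφ).n2_word, cg_mul, cg_mul, e_two, e_three, cg_mul, cg_mul, cg_mul, cg_e4, cg_e0]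
  rw [h1]
  exact n2_gl e7 e11 e9 h99

/-- the inclusion -/
def cgH : ↥(twistedF4 (ZMod 2) (2 ^ 0)) →* GL I52 (ZMod 2) where
  toFun := cg
  map_one' := rfl
  map_mul' := fun _ _ => rfl

theorem gl_conj {i j k : ℕ} (hi : i < 12) (hj : j < 12) (hk : k < 12)
    (h : Nat.beq (mulP (mulP (LP i) (LP j)) (LP i)) (LP k) = true) : yG i * yG j * yG i = yG k := by
  apply Units.ext
  rw [Units.val_mul, Units.val_mul, coe_yG hi, coe_yG hj, coe_yG hk, LM, LM, LM, ← toMat_mulP, ← toMat_mulP,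
    Nat.eq_of_beq_eq_true h]

theorem cg_n1c (g : ↥(twistedF4 (ZMod 2) (2 ^ 0))) : cg ((S0 hφ).n1 * g * (S0 hφ).n1⁻¹) = yG 8 * cg g * yG 8 := by
  rw [n1_inv, cg_mul, cg_mul, cg_n1]

theorem cg_n2c (g : ↥(twistedF4 (ZMod 2) (2 ^ 0))) : cg ((S0 hφ).n2 * g * (S0 hφ).n2⁻¹) = yG 9 * cg g * yG 9 := by
  rw [n2_inv, cg_mul, cg_mul, cg_n2]

theorem cg_o3 : cg ((S0 hφ).o 3 1) = yG 6 := by
  have h := cg_n2c hφ ((S0 hφ).o 0 1)
  rw [(S0 hφ).n2_o, cg_o0, gl_conj (k := 6) (by norm_num) (by norm_num) (by norm_num) (by decide +kernel)] at h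
  exact h

theorem cg_o1 : cg ((S0 hφ).o 1 1) = yG 2 := by
  have h := cg_n1c hφ ((S0 hφ).o 3 1)
  rw [(S0 hφ).n1_o, cg_o3, gl_conj (k := 2) (by norm_num) (by norm_num) (by norm_num) (by decide +kernel)] at h
  exact h

theorem cg_o2 : cg ((S0 hφ).o 2 1) = yG 4 := by
  have h := cg_n2c hφ ((S0 hφ).o 1 1)
  rw [(S0 hφ).n2_o, cg_o1, gl_conj (k := 4) (by norm_num) (by norm_num) (by norm_num) (by decide +kernel)] at h
  exact h

theorem cg_e1 : cg ((S0 hφ).e 1 1 0) = yG 1 := by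
  have h := cg_n1c hφ ((S0 hφ).e 4 1 0)
  rw [(S0 hφ).n1_e, cg_e4, gl_conj (k := 1) (by norm_num) (by norm_num) (by norm_num) (by decide +kernel)] at h
  exact h

theorem cg_e3 : cg ((S0 hφ).e 3 1 0) = yG 5 := by
  have h := cg_n2c hφ ((S0 hφ).e 1 1 0)
  rw [(S0 hφ).n2_e, cg_e1, gl_conj (k := 5) (by norm_num) (by norm_num) (by norm_num) (by decide +kernel)] at h
  exact h

theorem cg_e2 : cg ((S0 hφ).e 2 1 0) = yG 3 := by
  have h := cg_n1c hφ ((S0 hφ).e 3 1 0)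
  rw [(S0 hφ).n1_e, cg_e3, gl_conj (k := 3) (by norm_num) (by norm_num) (by norm_num) (by decide +kernel)] at h
  exact h

theorem zmod_cases : ∀ t : ZMod 2, t = 0 ∨ t = 1 := by decide

theorem o_mem_V {V : Subgroup ↥(twistedF4 (ZMod 2) (2 ^ 0))} {a : ZMod 8} (h : (S0 hφ).o a 1 ∈ V) (t : ZMod 2) :
    (S0 hφ).o a t ∈ V := by
  rcases zmod_cases t with rfl | rfl
  · rw [(S0 hφ).o_zero]; exact one_mem _
  · exact h

theorem e_mem_V {V : Subgroup ↥(twistedF4 (ZMod 2) (2 ^ 0))} {a : ZMod 8} (h : (S0 hφ).e a 1 0 ∈ V) (t u : ZMod 2) :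
    (S0 hφ).e a t u ∈ V := by
  rcases zmod_cases t with rfl | rfl
  · rcases zmod_cases u with rfl | rfl
    · rw [(S0 hφ).e_zero]; exact one_mem _
    · rw [e_two]; exact mul_mem h h
  · rcases zmod_cases u with rfl | rfl
    · exact h
    · rw [e_three]; exact mul_mem (mul_mem h h) h

theorem J_le_V : J (S0 hφ).XZ 1 8 ≤ (V yG 0).comap cgH := by
  have hO : ∀ (a : ℤ) (k : ℕ), k < 8 → cg ((S0 hφ).o (a : ZMod 8) 1) = yG k → (S0 hφ).XZ (2 * a + 1) ≤ (V yG 0).comap cgH := by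
    intro a k hk h x hx
    obtain ⟨t, rfl⟩ := ((S0 hφ).mem_XZ_odd a x).1 hx
    refine o_mem_V hφ ?_ t
    show cg _ ∈ V yG 0
    rw [h]
    exact mem_V yG (Nat.zero_le _) hk
  have hE : ∀ (a : ℤ) (k : ℕ), k < 8 → cg ((S0 hφ).e (a : ZMod 8) 1 0) = yG k → (S0 hφ).XZ (2 * a) ≤ (V yG 0).comap cgH := by
    intro a k hk h x hx
    obtain ⟨t, u, rfl⟩ := ((S0 hφ).mem_XZ_even a x).1 hx
    refine e_mem_V hφ ?_ t u
    show cg _ ∈ V yG 0
    rw [h]
    exact mem_V yG (Nat.zero_le _) hk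
  refine J_le fun k h1 h2 => ?_
  interval_cases k
  · exact hO 0 0 (by norm_num) (by have := cg_o0 hφ; push_cast; exact this)
  · exact hE 1 1 (by norm_num) (by have := cg_e1 hφ; push_cast; exact this)
  · exact hO 1 2 (by norm_num) (by have := cg_o1 hφ; push_cast; exact this)
  · exact hE 2 3 (by norm_num) (by have := cg_e2 hφ; push_cast; exact this)
  · exact hO 2 4 (by norm_num) (by have := cg_o2 hφ; push_cast; exact this)
  · exact hE 3 5 (by norm_num) (by have := cg_e3 hφ; push_cast; exact this)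
  · exact hO 3 6 (by norm_num) (by have := cg_o3 hφ; push_cast; exact this)
  · exact hE 4 7 (by norm_num) (by have := cg_e4 hφ; push_cast; exact this)

/-! ### the longest words -/

theorem refl_rota_mul {c d : ℤ} {m n : ↥(twistedF4 (ZMod 2) (2 ^ 0))} (h : Refl (S0 hφ).XZ c m)
    (h' : Rota (S0 hφ) d n) : Refl (S0 hφ).XZ (c - d) (m * n) := by
  intro j x
  rw [h' j x, h (d + j) (n * x * n⁻¹), show c - (d + j) = c - d - j by ring,
    show m * (n * x * n⁻¹) * m⁻¹ = m * n * x * (m * n)⁻¹ by group]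

theorem small : Small (S0 hφ) := by
  refine ⟨?_, Cfsg.Agent.S2184.hL hK0 hφ⟩
  intro g hg
  obtain ⟨c, d, rfl⟩ := (S0 hφ).mem_T.1 hg
  have hu : ∀ c : (ZMod 2)ˣ, c = 1 := fun c =>
    Units.ext ((Cfsg.Agent.S2184.units_one (ZMod.card 2) (c : ZMod 2)).resolve_left c.ne_zero)
  rw [hu c, hu d, (S0 hφ).h_one]

include hφ in
theorem form_of {t : ↥(twistedF4 (ZMod 2) (2 ^ 0))} (ht : t ≠ 1) : ∃ k : ↥(twistedF4 (ZMod 2) (2 ^ 0)),
    ∃ w ∈ Cfsg.Agent.H84.TitsCov.ww, ∃ v ∈ V yG 0, cg k * cg t * (cg k)⁻¹ = (w.map yG).prod * v := by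
  have H := small hφ
  have r1 := (S0 hφ).n1_refl
  have r2 := (S0 hφ).n2_refl
  have ρ1 : Rota (S0 hφ) 2 ((S0 hφ).n1 * (S0 hφ).n2) := by
    have := refl_mul r1 r2
    rwa [show (10 : ℤ) - 8 = 2 by norm_num] at this
  have ρ2 := rota_mul ρ1 ρ1
  have ρ3 := rota_mul ρ1 ρ2
  have ρ4 := rota_mul ρ1 ρ3
  have key : ∀ (w : List ℕ) (n u : ↥(twistedF4 (ZMod 2) (2 ^ 0))), w ∈ Cfsg.Agent.H84.TitsCov.ww →
      cg n = (w.map yG).prod → u ∈ J (S0 hφ).XZ 1 8 → Cj t (n * u) → ∃ k : ↥(twistedF4 (ZMod 2) (2 ^ 0)),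
    ∃ w ∈ Cfsg.Agent.H84.TitsCov.ww, ∃ v ∈ V yG 0, cg k * cg t * (cg k)⁻¹ = (w.map yG).prod * v := by
    intro w n u hw hn hu hc
    obtain ⟨k, hk⟩ := hc
    refine ⟨k, w, hw, cg u, J_le_V hφ hu, ?_⟩
    rw [← hn]
    have h1 := congrArg cgH hk
    rw [map_mul, map_mul, map_mul, map_inv] at h1
    exact h1
  rcases long_of_ne (S := S0 hφ) ht with h | h | h
  · obtain ⟨n, hn, u, hu, hc⟩ := h
    have h1 := refl_rota_mul hφ r2 ρ3
    rw [show (8 : ℤ) - (2 + (2 + 2)) = 2 by norm_num] at h1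
    refine key [9, 8, 9, 8, 9, 8, 9] n u (by decide) ?_ hu hc
    rw [refl_uniq H hn h1]
    simp only [cg_mul, cg_n1, cg_n2, List.map_cons, List.map_nil, List.prod_cons, List.prod_nil, mul_one, mul_assoc]
  · obtain ⟨n, hn, u, hu, hc⟩ := h
    have h1 := rota_refl_mul ρ3 r1
    rw [show (2 + (2 + 2) + 10 : ℤ) = 16 by norm_num] at h1
    refine key [8, 9, 8, 9, 8, 9, 8] n u (by decide) ?_ hu hc
    rw [refl_uniq H hn h1]
    simp only [cg_mul, cg_n1, cg_n2, List.map_cons, List.map_nil, List.prod_cons, List.prod_nil, mul_one, mul_assoc]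
  · obtain ⟨n, hn, u, hu, hc⟩ := h
    rw [show (2 + (2 + (2 + 2)) : ℤ) = 8 by norm_num] at ρ4
    refine key [8, 9, 8, 9, 8, 9, 8, 9] n u (by decide) ?_ hu hc
    rw [rota_uniq H hn ρ4]
    simp only [cg_mul, cg_n1, cg_n2, List.map_cons, List.map_nil, List.prod_cons, List.prod_nil, mul_one, mul_assoc]

theorem tits_cover : Cov TitsGroup := by
  obtain ⟨φ, hφ⟩ := exists_rln hK0
  refine Cfsg.Agent.H84.TitsConj.result_aux T0 T0_eq_H0 ?_
  intro t ht ht1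
  obtain ⟨k, w, hw, v, hv, h⟩ := form_of hφ (t := ⟨t, ht⟩) (fun h => ht1 (congrArg Subtype.val h))
  have hk : cg k ∈ H0 := by rw [← T0_eq_H0]; exact k.2
  exact ⟨cg k, hk, w, hw, v, hv, h⟩

end Cfsg.Agent.H84.TitsLink
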