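import Cfsg.Agent.H460.AADef
import Cfsg.Agent.H496.TwFRad.Levi
import Cfsg.Agent.H84.SzLevi
import Cfsg.Agent.S1162

/-!
# `Core` for `²F₄(q)`, `q ≥ 8` (task 861): the subgroup `Sz(q) × Sz(q)`
-/

set_option autoImplicit false
set_option linter.unusedSectionVars false

namespace Cfsg.Agent.H84.CoreTwF

open Subgroup Cfsg Cfsg.Agent.H460.AA Cfsg.Agent.H459.Rad
open Cfsg.Agent.SplitTwo Cfsg.Agent.SplitTwo.ZS

section abs

variable {G : Type*} [Group G] [Finite G]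

theorem inf_simple {C R : Subgroup G} [IsSimpleGroup C] (hC : ¬ Group.IsSolvable C)
    (hn : ∀ g ∈ C, ∀ r ∈ R, g * r * g⁻¹ ∈ R) (hs : Group.IsSolvable R) {x : G} (h1 : x ∈ C) (h2 : x ∈ R) : x = 1 := by
  have h3 : (R.subgroupOf C).Normal := ⟨fun n hn' g => by
    rw [mem_subgroupOf] at hn' ⊢
    exact hn g g.2 n hn'⟩
  rcases h3.eq_bot_or_eq_top with h | h
  · have h4 : (⟨x, h1⟩ : C) ∈ R.subgroupOf C := h2
    rw [h, mem_bot] at h4
    exact congrArg Subtype.val h4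
  · exfalso
    apply hC
    rw [subgroupOf_eq_top] at h
    exact Cfsg.Agent.SignalizersComponents.ComponentExists.isSolvable_of_le h hs

theorem center_simple {C : Type*} [Group C] [IsSimpleGroup C] (hC : ¬ Group.IsSolvable C) {x : C}
    (h : ∀ y, x * y = y * x) : x = 1 := by
  rcases (inferInstance : (center C).Normal).eq_bot_or_eq_top with h1 | h1
  · have h2 : x ∈ center C := mem_center_iff.2 fun y => (h y).symm
    rw [h1, mem_bot] at h2
    exact h2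
  · exfalso
    apply hC
    refine Group.isSolvable_of_comm fun a b => ?_
    have h2 : a ∈ center C := by rw [h1]; trivial
    exact (mem_center_iff.1 h2 b).symm

theorem rad_prod {A B R : Subgroup G} (hc : ∀ a ∈ A, ∀ b ∈ B, a * b = b * a) [IsSimpleGroup A] [IsSimpleGroup B]
    (hA : ¬ Group.IsSolvable A) (hB : ¬ Group.IsSolvable B) (hR : R ≤ A ⊔ B)
    (hn : ∀ g ∈ A ⊔ B, ∀ r ∈ R, g * r * g⁻¹ ∈ R) (hs : Group.IsSolvable R) : R = ⊥ := by
  rw [eq_bot_iff]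
  intro r hr
  have hBA : ∀ b ∈ B, ∀ a ∈ A, b * a * b⁻¹ ∈ A := fun b hb a ha => by
    rw [← hc a ha b hb, mul_inv_cancel_right]; exact ha
  have hform : ∃ a ∈ A, ∃ b ∈ B, r = a * b := mem_sup_of_norm (A := A) (B := B)
    (fun a ha b hb => by rw [hc a ha b hb, mul_inv_cancel_right]; exact hb) (hR hr)
  obtain ⟨a, ha, b, hb, rfl⟩ := hform
  have kA : ∀ y ∈ A, (a * b) * y * (a * b)⁻¹ = y := by
    intro y hy
    have h1 : (a * b) * y * (a * b)⁻¹ * y⁻¹ ∈ A := by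
      have e : (a * b) * y * (a * b)⁻¹ * y⁻¹ = a * (b * y * b⁻¹) * a⁻¹ * y⁻¹ := by group
      rw [e]
      exact mul_mem (mul_mem (mul_mem ha (hBA b hb y hy)) (inv_mem ha)) (inv_mem hy)
    have h2 : (a * b) * y * (a * b)⁻¹ * y⁻¹ ∈ R := by
      have e : (a * b) * y * (a * b)⁻¹ * y⁻¹ = (a * b) * (y * (a * b)⁻¹ * y⁻¹) := by group
      rw [e]
      exact mul_mem hr (hn y (mem_sup_left hy) _ (inv_mem hr))
    exact mul_inv_eq_one.1 (inf_simple hA (fun g hg r hr => hn g (mem_sup_left hg) r hr) hs h1 h2)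
  have kB : ∀ y ∈ B, (a * b) * y * (a * b)⁻¹ = y := by
    intro y hy
    have h1 : (a * b) * y * (a * b)⁻¹ * y⁻¹ ∈ B := by
      have hby := mul_mem (mul_mem hb hy) (inv_mem hb)
      have e : (a * b) * y * (a * b)⁻¹ * y⁻¹ = b * y * b⁻¹ * y⁻¹ := by
        calc (a * b) * y * (a * b)⁻¹ * y⁻¹ = a * (b * y * b⁻¹) * a⁻¹ * y⁻¹ := by group
          _ = b * y * b⁻¹ * y⁻¹ := by rw [hc a ha _ hby, mul_inv_cancel_right]
      rw [e]
      exact mul_mem hby (inv_mem hy)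
    have h2 : (a * b) * y * (a * b)⁻¹ * y⁻¹ ∈ R := by
      have e : (a * b) * y * (a * b)⁻¹ * y⁻¹ = (a * b) * (y * (a * b)⁻¹ * y⁻¹) := by group
      rw [e]
      exact mul_mem hr (hn y (mem_sup_right hy) _ (inv_mem hr))
    exact mul_inv_eq_one.1 (inf_simple hB (fun g hg r hr => hn g (mem_sup_right hg) r hr) hs h1 h2)
  have ha1 : (⟨a, ha⟩ : A) = 1 := by
    refine center_simple hA fun y => Subtype.ext ?_
    show a * (y : G) = y * a
    have h1 := kA y y.2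
    have h2 := hc y y.2 b hb
    calc a * (y : G) = a * ((y : G) * b) * b⁻¹ := by group
      _ = a * (b * y) * b⁻¹ := by rw [h2]
      _ = ((a * b) * y * (a * b)⁻¹) * a := by group
      _ = y * a := by rw [h1]
  have hb1 : (⟨b, hb⟩ : B) = 1 := by
    refine center_simple hB fun y => Subtype.ext ?_
    show b * (y : G) = y * b
    have h1 := kB y y.2
    have h2 := hc a ha (b * y * b⁻¹) (mul_mem (mul_mem hb y.2) (inv_mem hb))
    calc b * (y : G) = (b * y * b⁻¹) * b := by group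
      _ = ((b * y * b⁻¹) * a) * a⁻¹ * b := by group
      _ = (a * (b * y * b⁻¹)) * a⁻¹ * b := by rw [h2]
      _ = ((a * b) * y * (a * b)⁻¹) * b := by group
      _ = y * b := by rw [h1]
  have ha' : a = 1 := congrArg Subtype.val ha1
  have hb' : b = 1 := congrArg Subtype.val hb1
  rw [mem_bot, ha', hb', one_mul]

theorem card_prod {A B : Subgroup G} (hc : ∀ a ∈ A, ∀ b ∈ B, a * b = b * a) (h1 : ∀ x ∈ A, x ∈ B → x = 1) :
    Nat.card ↥(A ⊔ B) = Nat.card A * Nat.card B := by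
  rw [← Nat.card_prod]
  symm
  refine Nat.card_congr (Equiv.ofBijective (fun w : A × B => (⟨(w.1 : G) * w.2,
    mul_mem (mem_sup_left w.1.2) (mem_sup_right w.2.2)⟩ : ↥(A ⊔ B))) ⟨?_, ?_⟩)
  · rintro ⟨a, b⟩ ⟨a', b'⟩ h
    have h2 : (a : G) * b = a' * b' := congrArg Subtype.val h
    have h3 : (a' : G)⁻¹ * a = b' * (b : G)⁻¹ := by
      rw [inv_mul_eq_iff_eq_mul, ← mul_assoc, ← h2, mul_inv_cancel_right]
    have h4 := h1 _ (mul_mem (inv_mem a'.2) a.2) (by rw [h3]; exact mul_mem b'.2 (inv_mem b.2))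
    rw [h4] at h3
    rw [Subtype.ext (inv_mul_eq_one.1 h4), Subtype.ext (mul_inv_eq_one.1 h3.symm)]
  · rintro ⟨r, hr⟩
    obtain ⟨a, ha, b, hb, h⟩ := mem_sup_of_norm (A := A) (B := B)
      (fun a ha b hb => by rw [hc a ha b hb, mul_inv_cancel_right]; exact hb) hr
    exact ⟨(⟨a, ha⟩, ⟨b, hb⟩), Subtype.ext h.symm⟩

/-- **the product of two commuting simple groups of index prime to `p`** -/
theorem false_of_prod {A B : Subgroup G} (hc : ∀ a ∈ A, ∀ b ∈ B, a * b = b * a) [IsSimpleGroup A] [IsSimpleGroup B]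
    (hA : ¬ Group.IsSolvable A) (hB : ¬ Group.IsSolvable B) {cof : ℕ}
    (hG : Nat.card G = Nat.card A * Nat.card B * cof) (hcof : cof ≠ 1) {p : ℕ} [hp : Fact p.Prime] (hpc : ¬ p ∣ cof)
    {a : G} (ha : orderOf a = p) (h : RC (MulAut.conj a)) : False := by
  have h1 : ∀ x ∈ A, x ∈ B → x = 1 := fun x hx hx' => by
    have : (⟨x, hx⟩ : A) = 1 := center_simple hA fun y => Subtype.ext (hc y y.2 x hx').symm
    exact congrArg Subtype.val this
  have hcard := card_prod hc h1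
  have hidx : (A ⊔ B).index = cof := by
    have h2 := Subgroup.card_mul_index (A ⊔ B)
    rw [hcard, hG] at h2
    exact Nat.eq_of_mul_eq_mul_left (by have := Nat.card_pos (α := A); have := Nat.card_pos (α := B); positivity) h2
  refine false_of_index (H := A ⊔ B) (p := p) ?_ (by rw [hidx]; exact hpc) ?_ ha h
  · intro h2
    rw [h2, index_top] at hidx
    exact hcof hidx.symm
  · have h2 : radIn (A ⊔ B) = ⊥ := rad_prod hc hA hB (radIn_le _) (fun g hg r hr => radIn_conj_mem hg hr)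
      (radIn_solvable _)
    have h3 : solvableRadical ↥(A ⊔ B) = ⊥ := by
      unfold radIn at h2
      rwa [Subgroup.map_eq_bot_iff_of_injective _ (Subgroup.subtype_injective _)] at h2
    rw [h3, Subgroup.card_bot]
    exact hp.out.one_lt.not_ge ∘ Nat.le_of_dvd one_pos

end abs

open Cfsg.Agent.KFacts.TwF4 Cfsg.Agent.KFacts.TwF4.Irr Cfsg.Agent.H496.TwFRad Cfsg.Agent.CpAutTwF.Cent Cfsg.Lie

universe u

variable {F : Type*} [Field F] {σ : F →+* F} {G : Type u} [Group G] (S : Full σ G) [Finite F] [Finite G]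

theorem L4_eq : L4 S = Cfsg.Agent.H84.GaussTwF4.LL S := sup_comm _ _

theorem simple_L4 {m : ℕ} (hm : 1 ≤ m) (hF : Nat.card F = 2 ^ (2 * m + 1)) : IsSimpleGroup ↥(L4 S) ∧
    ¬ Group.IsSolvable ↥(L4 S) := by
  have h := Cfsg.Agent.H84.GaussTwF4.LL_iso S (k := 2 * m + 1) (by omega) hF
  rw [Cfsg.Agent.H84.GaussTwF4.LJ_eq, ← L4_eq] at h
  obtain ⟨E, _, _, n, hn, hE, ⟨e⟩⟩ := h
  have h1 := Cfsg.Agent.S1162.result hn hE
  have h2 : Nontrivial ↥(L4 S) := e.toEquiv.nontrivial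
  have h3 : IsSimpleGroup ↥(L4 S) := IsSimpleGroup.isSimpleGroup_of_surjective e.symm.toMonoidHom e.symm.surjective
  refine ⟨h3, fun hs => ?_⟩
  have hFu : ∃ d : Fˣ, d ≠ 1 := by
    have h1 : 1 < Nat.card Fˣ := by
      rw [Nat.card_units, hF]
      have : 2 ^ 3 ≤ 2 ^ (2 * m + 1) := Nat.pow_le_pow_right (by norm_num) (by omega)
      omega
    have h2 : Nontrivial Fˣ := Finite.one_lt_card_iff_nontrivial.1 h1
    exact exists_ne 1
  have h4 := Cfsg.Agent.Schreier.Basic.eq_bot_of_perfect_of_solvable (Levi.L4_perfect S hFu) hs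
  have h5 : S.e 4 0 1 ∈ L4 S := X8_L4 S ((Arc.mem_X8 S).2 ⟨0, 1, rfl⟩)
  rw [h4, mem_bot] at h5
  exact one_ne_zero (S.e_eq_one h5).2

theorem z_three : ∀ x : ZMod 3, (x + 1) ^ 2 + 1 ≠ 0 := by decide

include S in
theorem false_of_dvd {m : ℕ} (hm : 1 ≤ m) {q : ℕ} (hq : q = 2 ^ (2 * m + 1)) (hF : Nat.card F = q)
    (hG : Nat.card G = q ^ 12 * (q - 1) * (q ^ 3 + 1) * (q ^ 4 - 1) * (q ^ 6 + 1))
    {p : ℕ} [hp : Fact p.Prime] (hp2 : p ≠ 2) (hpq : p ∣ q - 1 ∨ p ∣ q ^ 2 + 1) {a : G} (ha : orderOf a = p)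
    (h : RC (MulAut.conj a)) : False := by
  have hF' : Nat.card F = 2 ^ (2 * m + 1) := hF.trans hq
  have hFu : ∃ d : Fˣ, d ≠ 1 := by
    have h1 : 1 < Nat.card Fˣ := by
      rw [Nat.card_units, hF']
      have : 2 ^ 3 ≤ 2 ^ (2 * m + 1) := Nat.pow_le_pow_right (by norm_num) (by omega)
      omega
    have h2 : Nontrivial Fˣ := Finite.one_lt_card_iff_nontrivial.1 h1
    exact exists_ne 1
  obtain ⟨h1, h2⟩ := simple_L4 S hm hF'
  have e : ↥(L4 S) ≃* ↥(M4 S) := ((L4 S).equivMapOfInjective (S.ck 2).toMonoidHom (S.ck 2).injective).trans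
    (MulEquiv.subgroupCongr (map_L4 S))
  have h3 : Nontrivial ↥(M4 S) := e.symm.toEquiv.nontrivial
  have h4 : IsSimpleGroup ↥(M4 S) := IsSimpleGroup.isSimpleGroup_of_surjective e.toMonoidHom e.surjective
  have h5 : ¬ Group.IsSolvable ↥(M4 S) := fun hs => h2
    (Group.isSolvable_of_surjective (f := e.symm.toMonoidHom) e.symm.surjective)
  have hq2 : 2 ≤ q := by
    rw [hq]
    calc 2 = 2 ^ 1 := rfl
      _ ≤ 2 ^ (2 * m + 1) := Nat.pow_le_pow_right (by norm_num) (by omega)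
  obtain ⟨r, rfl⟩ : ∃ r, q = r + 1 := ⟨q - 1, by omega⟩
  have hL : Nat.card (L4 S) = (r + 1) * (r + 1) * r * ((r + 1) * (r + 1) + 1) := by
    rw [Levi.card_L4 S hFu, hF, Nat.add_sub_cancel]
  have hM : Nat.card (M4 S) = (r + 1) * (r + 1) * r * ((r + 1) * (r + 1) + 1) := by
    rw [← Nat.card_congr e.toEquiv, hL]
  have hp1 : ¬ p ∣ 2 := fun hd => hp2 ((Nat.prime_dvd_prime_iff_eq hp.out Nat.prime_two).1 hd)
  have hpr : ¬ p ∣ r + 1 := by
    rw [hq]
    exact fun hd => hp1 (hp.out.dvd_of_dvd_pow hd)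
  refine false_of_prod (A := L4 S) (B := M4 S) (fun a ha b hb => L4_comm_M4 S ha hb) h2 h5
    (cof := (r + 1) ^ 8 * (r + 2) ^ 2 * (r ^ 2 + r + 1) * (r ^ 4 + 4 * r ^ 3 + 5 * r ^ 2 + 2 * r + 1)) ?_ ?_ (p := p) ?_ ha h
  · rw [hG, hL, hM]
    have h1 : (r + 1) ^ 4 - 1 = r * (r + 2) * ((r + 1) ^ 2 + 1) := by
      apply Nat.sub_eq_of_eq_add
      ring
    rw [h1, Nat.add_sub_cancel]
    ring
  · have h8 : 2 ≤ (r + 1) ^ 8 := hq2.trans (Nat.le_self_pow (by norm_num) _)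
    have h9 : 1 ≤ (r + 2) ^ 2 * (r ^ 2 + r + 1) * (r ^ 4 + 4 * r ^ 3 + 5 * r ^ 2 + 2 * r + 1) := by
      have : 0 < (r + 2) ^ 2 * (r ^ 2 + r + 1) * (r ^ 4 + 4 * r ^ 3 + 5 * r ^ 2 + 2 * r + 1) := by positivity
      omega
    nlinarith
  · -- modulo `p`
    intro hd
    have hcast := (ZMod.natCast_eq_zero_iff _ p).2 hd
    push_cast at hcast
    have h2z : (2 : ZMod p) ≠ 0 := by
      intro hz
      exact hp1 ((ZMod.natCast_eq_zero_iff 2 p).1 (by exact_mod_cast hz))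
    have hqz : ((r : ZMod p) + 1) ≠ 0 := by
      intro hz
      exact hpr ((ZMod.natCast_eq_zero_iff (r + 1) p).1 (by push_cast; exact hz))
    rcases hpq with h | h
    · rw [Nat.add_sub_cancel] at h
      have hr : (r : ZMod p) = 0 := (ZMod.natCast_eq_zero_iff r p).2 h
      rw [hr] at hcast
      have : (2 : ZMod p) ^ 2 = 0 := by linear_combination hcast
      exact h2z (pow_eq_zero_iff (by norm_num) |>.1 this)
    · have hr : ((r : ZMod p) + 1) ^ 2 + 1 = 0 := by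
        have := (ZMod.natCast_eq_zero_iff _ p).2 h
        push_cast at this
        exact this
      -- `cof = 6 q ^ 8 * (...)`
      have h3 : (3 : ZMod p) ≠ 0 := by
        intro hz
        have h3 : p ∣ 3 := (ZMod.natCast_eq_zero_iff 3 p).1 (by exact_mod_cast hz)
        have hp3 : p = 3 := (Nat.prime_dvd_prime_iff_eq hp.out Nat.prime_three).1 h3
        subst hp3
        exact z_three _ hr
      obtain ⟨y, hy⟩ : ∃ y : ZMod p, y = (r : ZMod p) + 1 := ⟨_, rfl⟩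
      have hry : (r : ZMod p) = y - 1 := by rw [hy]; ring
      rw [← hy] at hr hqz
      rw [hry] at hcast
      have hy2 : y ^ 2 = -1 := by linear_combination hr
      have e1 : (y - 1 + 2) ^ 2 = 2 * y := by linear_combination hy2
      have e2 : (y - 1) ^ 2 + (y - 1) + 1 = - y := by linear_combination hy2
      have e3 : (y - 1) ^ 4 + 4 * (y - 1) ^ 3 + 5 * (y - 1) ^ 2 + 2 * (y - 1) + 1 = 3 := by
        have : (y - 1) ^ 4 + 4 * (y - 1) ^ 3 + 5 * (y - 1) ^ 2 + 2 * (y - 1) + 1 = (y ^ 2) ^ 2 - y ^ 2 + 1 := by ring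
        rw [this, hy2]; ring
      have e0 : y - 1 + 1 = y := by ring
      rw [e0, e1, e2, e3] at hcast
      have h6 : y ^ 8 * (2 * y) * (- y) * 3 ≠ 0 := by
        refine mul_ne_zero (mul_ne_zero (mul_ne_zero (pow_ne_zero _ hqz) (mul_ne_zero h2z hqz)) (neg_ne_zero.2 hqz)) h3
      exact h6 hcast

end Cfsg.Agent.H84.CoreTwF
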