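import Cfsg.Agent.H460.AADef
import Cfsg.Agent.H392.TwFFour.DatF

/-!
# `Core` for `²F₄(q)`, `q ≥ 8` (task 861): elliptic elements

* `comm_of_pa` : a subgroup `P` of order prime to `p` all of whose double cosets are closed under inversion;
* `exists_comm` : `a` of order `p`, `p ∤ (q - 1) (q² + 1)`, with `a * a^g` always a `p`-element, commutes with a
  `2`-element `≠ 1`.
-/

set_option autoImplicit false
set_option linter.unusedSectionVars false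

namespace Cfsg.Agent.H84.CoreTwF

open Subgroup Cfsg.Agent.H460.AA

section abs

variable {G : Type*} [Group G] [Finite G]

/-- `P` a `p'`-group, `P a P = P a⁻¹ P`: the elements of `P ∩ P^a` commute with `a` -/
theorem comm_of_pa {P : Subgroup G} {p : ℕ} [Fact p.Prime] (hp : ¬ p ∣ Nat.card P) {a : G}
    (hinv : ∃ h ∈ P, ∃ h' ∈ P, a⁻¹ = h * a * h') (hP : ∀ g : G, PE p (a * (g * a * g⁻¹))) {l : G} (hl : l ∈ P)
    (hl' : a⁻¹ * l * a ∈ P) : l * a = a * l := by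
  obtain ⟨h, hh, h', hh', e⟩ := hinv
  have key : ∀ l ∈ P, a⁻¹ * l * a ∈ P → h * l * a * (h * l)⁻¹ = a⁻¹ := by
    intro l hl hl'
    have h1 : a * (h * l * a * (h * l)⁻¹) ∈ P := by
      have e1 : a * (h * l * a * (h * l)⁻¹) = (a * h * a * h') * h'⁻¹ * (a⁻¹ * l * a) * l⁻¹ * h⁻¹ := by group
      have e2 : a * h * a * h' = 1 := by
        calc a * h * a * h' = a * (h * a * h') := by group
          _ = 1 := by rw [← e, mul_inv_cancel]
      rw [e1, e2, one_mul]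
      exact mul_mem (mul_mem (mul_mem (inv_mem hh') hl') (inv_mem hl)) (inv_mem hh)
    have h2 := (hP (h * l)).eq_one (fun hd => hp (hd.trans (by
      have := orderOf_dvd_natCard (⟨_, h1⟩ : P)
      rwa [Subgroup.orderOf_mk] at this)))
    exact (inv_eq_of_mul_eq_one_right h2).symm
  have h1 := key l hl hl'
  have h2 := key 1 (one_mem _) (by simp)
  rw [mul_one] at h2
  have h3 : l * a * l⁻¹ = a := by
    calc l * a * l⁻¹ = h⁻¹ * (h * l * a * (h * l)⁻¹) * h := by group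
      _ = h⁻¹ * (h * a * h⁻¹) * h := by rw [h1, h2]
      _ = a := by group
  calc l * a = (l * a * l⁻¹) * l := by group
    _ = a * l := by rw [h3]

end abs

open Cfsg.Agent.SplitTwo Cfsg.Agent.SplitTwo.ZS Cfsg.Agent.TitsThree.RankTwoZ
open Cfsg.Agent.KFacts.TwF4 Cfsg.Agent.H392.TwFFour

universe u

variable {F : Type*} [Field F] {σ : F →+* F} {G : Type u} [Group G] (S : Full σ G) [Finite F] [Finite G]

theorem mem_PS_of_J {x : G} (hx : x ∈ J S.XZ 0 8) : x ∈ P S := PL_le_P S hx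

theorem U_le_PS : J S.XZ 1 8 ≤ P S := fun _ hx => mem_PS_of_J S (J_mono (by norm_num) le_rfl hx)

theorem n2_mem_PS : S.n2 ∈ P S := PL_le_P S S.n2_mem

/-- a reflection -/
theorem refl_sq {w : G} {c : ZMod (2 * 8)} (h : Maps S.R.X w (fun k => c - k)) : w * w ∈ S.T := by
  have h1 : Maps S.R.X (w * w) id := (h.mul h).congr fun k => by simp
  intro k x
  exact h1 k x

/-- the double cosets of `P` are closed under inversion -/
theorem inv_PS (g : G) : ∃ h ∈ P S, ∃ h' ∈ P S, g⁻¹ = h * g * h' := by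
  obtain ⟨b, hb, t, ht, w, hw, b', hb', rfl⟩ := S.bruhat g
  have hbP := U_le_PS S hb
  have hb'P := U_le_PS S hb'
  have htP := T_le_P S ht
  have key : ∃ h ∈ P S, ∃ h' ∈ P S, w⁻¹ = h * w * h' := by
    obtain ⟨c, hc | hc⟩ := hw
    · have h1 : Maps S.R.X (w * S.n2) (fun k => (c + 8) - k) := (hc.mul S.n2_maps).congr fun k => by
        simp only [Function.comp]; ring
      have h2 := T_le_P S (refl_sq S h1)
      refine ⟨S.n2, n2_mem_PS S, S.n2 * (w * S.n2 * (w * S.n2))⁻¹,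
        mul_mem (n2_mem_PS S) (inv_mem h2), ?_⟩
      group
    · have h2 := T_le_P S (refl_sq S hc)
      exact ⟨1, one_mem _, (w * w)⁻¹, inv_mem h2, by group⟩
  obtain ⟨h, hh, h', hh', e⟩ := key
  refine ⟨b'⁻¹ * h * (b * t)⁻¹, mul_mem (mul_mem (inv_mem hb'P) hh) (inv_mem (mul_mem hbP htP)),
    b'⁻¹ * h' * (b * t)⁻¹, mul_mem (mul_mem (inv_mem hb'P) hh') (inv_mem (mul_mem hbP htP)), ?_⟩
  calc (b * t * w * b')⁻¹ = b'⁻¹ * w⁻¹ * (b * t)⁻¹ := by group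
    _ = b'⁻¹ * (h * w * h') * (b * t)⁻¹ := by rw [e]
    _ = _ := by group

theorem exists_idx : ∀ c : ZMod (2 * 8), (∃ k : ZMod (2 * 8), k.val ≤ 8 ∧ 1 ≤ (c + k).val ∧ (c + k).val ≤ 8) ∧
    (∃ k : ZMod (2 * 8), k.val ≤ 8 ∧ 1 ≤ (c - k).val ∧ (c - k).val ≤ 8) := by decide

theorem exists_inter (hR : S.R.p = 2) (g : G) : ∃ v, v ≠ 1 ∧ v ∈ P S ∧ g⁻¹ * v * g ∈ P S ∧ ∃ k : ℕ, v ^ 2 ^ k = 1 := by
  obtain ⟨b, hb, t, ht, w, hw, b', hb', rfl⟩ := S.bruhat g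
  have hbP := U_le_PS S hb
  have hb'P := U_le_PS S hb'
  have htP := T_le_P S ht
  -- root groups
  have key : ∃ j k : ZMod (2 * 8), 1 ≤ j.val ∧ j.val ≤ 8 ∧ k.val ≤ 8 ∧ ∀ x ∈ S.R.X k, w * x * w⁻¹ ∈ S.R.X j := by
    obtain ⟨c, hc | hc⟩ := hw
    · obtain ⟨k, hk, h1, h2⟩ := (exists_idx c).1
      exact ⟨c + k, k, h1, h2, hk, fun x hx => (hc k x).2 hx⟩
    · obtain ⟨k, hk, h1, h2⟩ := (exists_idx c).2
      exact ⟨c - k, k, h1, h2, hk, fun x hx => (hc k x).2 hx⟩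
  obtain ⟨j, k, hj1, hj2, hk, hw'⟩ := key
  have hX := X_eq S
  obtain ⟨x, hx, hx1⟩ := S.zsys8.exists_ne (k.val : ℤ)
  have hxX : x ∈ S.R.X k := by rw [hX]; exact hx
  have hxP : x ∈ P S := mem_PS_of_J S (mem_J hx (by positivity) (by exact_mod_cast hk))
  have hy := hw' x hxX
  rw [hX] at hy
  have hyP : w * x * w⁻¹ ∈ P S := U_le_PS S (mem_J hy (by exact_mod_cast hj1) (by exact_mod_cast hj2))
  refine ⟨b * t * (w * x * w⁻¹) * (b * t)⁻¹, ?_, mul_mem (mul_mem (mul_mem hbP htP) hyP) (inv_mem (mul_mem hbP htP)), ?_, ?_⟩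
  · intro h
    apply hx1
    calc x = w⁻¹ * ((b * t)⁻¹ * (b * t * (w * x * w⁻¹) * (b * t)⁻¹) * (b * t)) * w := by group
      _ = 1 := by rw [h]; group
  · have e : (b * t * w * b')⁻¹ * (b * t * (w * x * w⁻¹) * (b * t)⁻¹) * (b * t * w * b') = b'⁻¹ * x * b' := by group
    rw [e]
    exact mul_mem (mul_mem (inv_mem hb'P) hxP) hb'P
  · obtain ⟨n, hn⟩ := two_XZ S hR (j.val : ℤ) ⟨_, hy⟩
    have hn' : (w * x * w⁻¹) ^ 2 ^ n = 1 := congrArg Subtype.val hn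
    exact ⟨n, by rw [conj_pow, hn', mul_one, mul_inv_cancel]⟩

/-- **Elliptic elements.** -/
theorem exists_comm (hR : S.R.p = 2) {p : ℕ} [hp : Fact p.Prime] (hp2 : p ≠ 2)
    (hq : Nat.card F = 2 ^ Nat.log 2 (Nat.card F)) (h1 : ¬ p ∣ Nat.card F - 1) (h2 : ¬ p ∣ Nat.card F ^ 2 + 1) {a : G}
    (hP : ∀ g : G, PE p (a * (g * a * g⁻¹))) : ∃ v, v ≠ 1 ∧ v * a = a * v ∧ ∃ k : ℕ, v ^ 2 ^ k = 1 := by
  obtain ⟨v, hv1, hv, hv', hk⟩ := exists_inter S hR a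
  refine ⟨v, hv1, comm_of_pa (P := P S) ?_ (inv_PS S a) hP hv hv', hk⟩
  rw [card_P]
  intro hd
  rcases (Nat.Prime.dvd_mul hp.out).1 hd with hd | hd
  · rcases (Nat.Prime.dvd_mul hp.out).1 hd with hd | hd
    · have h3 := hp.out.dvd_of_dvd_pow hd
      rw [hq] at h3
      exact hp2 ((Nat.prime_dvd_prime_iff_eq hp.out Nat.prime_two).1 (hp.out.dvd_of_dvd_pow h3))
    · exact h1 (hp.out.dvd_of_dvd_pow hd)
  · exact h2 hd

end Cfsg.Agent.H84.CoreTwF
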