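import Cfsg.Agent.H84.CoreTwFC
import Cfsg.Agent.H84.CoreTwFA
import Cfsg.Agent.H410.TwFFour
import Cfsg.Agent.KFacts.TwF4.Layers
import Cfsg.Agent.KFacts.TwF4.SylU
import Cfsg.Agent.KFacts.TwF4.OutTwo

/-!
# Radical automorphisms of odd prime order of `²F₄(q)`, `q ≥ 8`, fix no involution (task 861)
-/

set_option autoImplicit false
set_option linter.unusedSectionVars false

namespace Cfsg.Agent.H84.CoreTwF

open Subgroup Cfsg Cfsg.Agent.H459.Rad Cfsg.Agent.H459.Gallery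
open Cfsg.Agent.SplitTwo Cfsg.Agent.SplitTwo.ZS Cfsg.Agent.TitsThree.RankTwoZ
open Cfsg.Agent.KFacts.TwF4 Cfsg.Agent.KFacts.TwF4.Arc Cfsg.Agent.KFacts.TwF4.Inv Cfsg.Agent.H392.TwFFour

open scoped commutatorElement

section iv

variable {K : Type*} [Group K] [Finite K] {y : MulAut K}

theorem iv_surj {A : Subgroup K} (h : Iv y A) {a : K} (ha : a ∈ A) : ∃ b ∈ A, y b = a := by
  have h1 := h.map_eq
  rw [← h1] at ha
  exact ha

theorem iv_centralizer {A : Subgroup K} (h : Iv y A) : Iv y (centralizer (A : Set K)) := by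
  intro g hg
  rw [mem_centralizer_iff] at hg ⊢
  intro a ha
  obtain ⟨b, hb, rfl⟩ := iv_surj h ha
  rw [← map_mul, ← map_mul, hg b hb]

theorem iv_centralizer_singleton {z : K} (h : y z = z) : Iv y (centralizer ({z} : Set K)) := by
  intro g hg
  rw [mem_centralizer_singleton_iff] at hg ⊢
  have := congrArg y hg
  rw [map_mul, map_mul, h] at this
  exact this

theorem iv_normalizer {A : Subgroup K} (h : Iv y A) : Iv y (normalizer (A : Set K)) := by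
  intro g hg
  rw [mem_normalizer_iff] at hg ⊢
  have hback : ∀ {a : K}, y a ∈ A → a ∈ A := by
    intro a ha
    obtain ⟨b, hb, e⟩ := iv_surj h ha
    rwa [← y.injective e]
  intro a
  obtain ⟨b, rfl⟩ := y.surjective a
  have e : y g * y b * (y g)⁻¹ = y (g * b * g⁻¹) := by rw [map_mul, map_mul, map_inv]
  rw [e]
  exact ⟨fun hb => h _ ((hg b).1 (hback hb)), fun hb => h _ ((hg b).2 (hback hb))⟩

theorem iv_commutator {A B : Subgroup K} (hA : Iv y A) (hB : Iv y B) : Iv y ⁅A, B⁆ := by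
  have h1 : ⁅A, B⁆ ≤ ⁅A, B⁆.comap y.toMonoidHom := by
    rw [commutator_le]
    intro a ha b hb
    rw [mem_comap]
    have e : y.toMonoidHom ⁅a, b⁆ = ⁅y a, y b⁆ := map_commutatorElement y a b
    rw [e]
    exact commutator_mem_commutator (hA a ha) (hB b hb)
  exact fun a ha => h1 ha

end iv

universe u

variable {F : Type*} [Field F] {σ : F →+* F} {G : Type u} [Group G] (S : Full σ G) [Finite F] [Finite G]

theorem iv_PS {y : MulAut G} {z : G} (hz : z ∈ S.Zc 2) (hz1 : z ≠ 1) (h : y z = z) : Iv y (P S) := by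
  have h1 : Iv y S.PL := by
    rw [← S.centralizer_z hz hz1]
    exact iv_centralizer_singleton h
  refine iv_normalizer (A := S.Zc 2) ?_
  intro w hw
  rw [← S.centralizer_Q, mem_centralizer_iff]
  intro a ha
  have haPL : a ∈ S.PL := J_mono (by norm_num) (by norm_num) ha
  obtain ⟨b, hb, rfl⟩ := iv_surj h1 haPL
  rw [← map_mul, ← map_mul, S.comm_PL hb hw]

/-- the second parabolic subgroup -/
def PW : Subgroup G := normalizer (S.W46 : Set G)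

theorem iv_PW (hF : ∃ c : Fˣ, c ≠ 1) (hR : S.R.p = 2) {y : MulAut G} {s : F} (hs : s ≠ 0)
    (h : y (S.o 2 s) = S.o 2 s) : Iv y (PW S) := by
  have h1 : Iv y S.HO := by
    rw [← S.centralizer_o hs]
    exact iv_centralizer_singleton h
  have h2 : Iv y S.NO := by
    have h3 := Perf.O2_HO S hF hR (N := S.NO.map y.toMonoidHom) (by
      rintro _ ⟨a, ha, rfl⟩
      exact h1 a (Perf.NO_HO S ha)) ((Perf.two_NO S hR).map _) (by
      rintro g hg _ ⟨a, ha, rfl⟩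
      obtain ⟨k, hk, rfl⟩ := iv_surj h1 hg
      exact ⟨k * a * k⁻¹, Perf.NO_norm S hk ha, by simp⟩)
    intro a ha
    exact h3 ⟨a, ha, rfl⟩
  have h3 : Iv y S.V5 := by
    rw [← S.centralizer_NO]
    exact iv_centralizer h2
  have h4 : Iv y S.W46 := by
    rw [← Layers.comm_V5 S hF]
    exact iv_commutator h3 h1
  exact iv_normalizer h4

/-- an involution is conjugate to `e 2 0 u` or `o 2 t` -/
theorem classes' (hF : ∃ c : Fˣ, c ≠ 1) (hR : S.R.p = 2) {g : G} (hg : g * g = 1) (hg1 : g ≠ 1) :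
    (∃ u : F, u ≠ 0 ∧ Cj g (S.e 2 0 u)) ∨ (∃ t : F, t ≠ 0 ∧ Cj g (S.o 2 t)) := by
  rcases SylU.classes S hF hR hg hg1 with ⟨u, hu, h⟩ | ⟨t, ht, h⟩
  · refine Or.inl ⟨u, hu, h.trans ⟨S.n1 * (S.n2 * (S.n1 * S.n2)), ?_⟩⟩
    have e : S.n1 * (S.n2 * (S.n1 * S.n2)) * S.e 0 0 u * (S.n1 * (S.n2 * (S.n1 * S.n2)))⁻¹ =
        S.n1 * (S.n2 * (S.n1 * (S.n2 * S.e 0 0 u * S.n2⁻¹) * S.n1⁻¹) * S.n2⁻¹) * S.n1⁻¹ := by group
    rw [e, S.n2_e, S.n1_e, S.n2_e, S.n1_e]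
    congr 1
  · refine Or.inr ⟨t, ht, h.trans ⟨S.n2 * (S.n1 * S.n2), ?_⟩⟩
    have e : S.n2 * (S.n1 * S.n2) * S.o 0 t * (S.n2 * (S.n1 * S.n2))⁻¹ =
        S.n2 * (S.n1 * (S.n2 * S.o 0 t * S.n2⁻¹) * S.n1⁻¹) * S.n2⁻¹ := by group
    rw [e, S.n2_o, S.n1_o, S.n2_o]
    congr 1

/-! ### the two maximal subgroups -/

theorem n2_notMem_U (hM : ∀ x ∈ J S.XZ 1 8, S.n2 * x * S.n2⁻¹ ∈ J S.XZ 1 8) : False := by
  obtain ⟨x, hx, hx1⟩ := S.zsys8.exists_ne 8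
  have h1 : S.n2 * x * S.n2⁻¹ ∈ S.XZ 0 := S.n2_refl.mem' hx (by norm_num)
  have h2 := OutTwo.X0_inf_U S h1 (hM x (mem_J hx (by norm_num) le_rfl))
  apply hx1
  calc x = S.n2⁻¹ * (S.n2 * x * S.n2⁻¹) * S.n2 := by group
    _ = 1 := by rw [h2]; group

theorem n1_notMem_U (hM : ∀ x ∈ J S.XZ 1 8, S.n1 * x * S.n1⁻¹ ∈ J S.XZ 1 8) : False := by
  obtain ⟨x, hx, hx1⟩ := S.zsys8.exists_ne 1
  have h1 : S.n1 * x * S.n1⁻¹ ∈ S.XZ 9 := S.n1_refl.mem' hx (by norm_num)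
  have h2 := X9_inf_U S h1 (hM x (mem_J hx le_rfl (by norm_num)))
  apply hx1
  calc x = S.n1⁻¹ * (S.n1 * x * S.n1⁻¹) * S.n1 := by group
    _ = 1 := by rw [h2]; group

theorem n1_notMem_PS : S.n1 ∉ P S := by
  intro h
  have h1 : S.n1 * S.e 2 0 1 * S.n1⁻¹ ∈ S.Zc 2 := (mem_normalizer_iff.1 h _).1 ⟨1, rfl⟩
  have h2 : S.n1 * S.e 2 0 1 * S.n1⁻¹ ∈ S.XZ 6 := S.n1_refl.mem' (S.mX4 0 1) (by norm_num)
  have h3 : S.n1 * S.e 2 0 1 * S.n1⁻¹ ∈ S.XZ 4 := S.Zc_le 2 h1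
  have h4 := S.zsys8.inter 4 _ h3 (mem_J h2 (by norm_num) (by norm_num))
  have h5 : S.e 2 0 1 = 1 := by
    calc S.e 2 0 1 = S.n1⁻¹ * (S.n1 * S.e 2 0 1 * S.n1⁻¹) * S.n1 := by group
      _ = 1 := by rw [h4]; group
  exact one_ne_zero (S.e_eq_one h5).2

theorem n2_notMem_PW : S.n2 ∉ PW S := by
  intro h
  have hw : S.e 3 0 1 ∈ S.W46 := ⟨0, 1, by rw [S.e_zero, one_mul]⟩
  have h1 : S.n2 * S.e 3 0 1 * S.n2⁻¹ ∈ S.W46 := (mem_normalizer_iff.1 h _).1 hw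
  have h2 : S.n2 * S.e 3 0 1 * S.n2⁻¹ ∈ S.XZ 2 := S.n2_refl.mem' (S.mX6 0 1) (by norm_num)
  have h4 := S.zsys8.inter 2 _ h2 (J_mono (by norm_num) (by norm_num) (S.W46_le h1))
  have h5 : S.e 3 0 1 = 1 := by
    calc S.e 3 0 1 = S.n2⁻¹ * (S.n2 * S.e 3 0 1 * S.n2⁻¹) * S.n2 := by group
      _ = 1 := by rw [h4]; group
  exact one_ne_zero (S.e_eq_one h5).2

theorem J19_le_PW : J S.XZ 1 9 ≤ PW S := S.W46_norm

theorem T_le_PW : S.T ≤ PW S := by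
  intro t ht
  show t ∈ normalizer (S.W46 : Set G)
  rw [mem_normalizer_iff]
  intro w
  refine ⟨fun hw => S.T_conj_W46 ht hw, fun hw => ?_⟩
  have := S.T_conj_W46 (inv_mem ht) hw
  have e : t⁻¹ * (t * w * t⁻¹) * t⁻¹⁻¹ = w := by group
  rwa [e] at this

theorem n1_mem_PW : S.n1 ∈ PW S := J19_le_PW S (Perf.HO_le_J S (Perf.n1_mem_HO S))

theorem PS_not_solvable (hF : ∃ c : Fˣ, c ≠ 1) : ¬ Group.IsSolvable (P S) := by
  intro h
  have h1 : Group.IsSolvable S.PL := Cfsg.Agent.SignalizersComponents.ComponentExists.isSolvable_of_le (PL_le_P S) h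
  have h2 := Cfsg.Agent.Schreier.Basic.eq_bot_of_perfect_of_solvable (Perf.PL_perfect S hF) h1
  have h3 : S.e 2 0 1 ∈ S.PL := mem_J (S.mX4 0 1) (by norm_num) (by norm_num)
  rw [h2, mem_bot] at h3
  exact one_ne_zero (S.e_eq_one h3).2

theorem PW_not_solvable (hF : ∃ c : Fˣ, c ≠ 1) : ¬ Group.IsSolvable (PW S) := by
  intro h
  have h1 : Group.IsSolvable S.HO := Cfsg.Agent.SignalizersComponents.ComponentExists.isSolvable_of_le
    ((Perf.HO_le_J S).trans (J19_le_PW S)) h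
  have h2 := Cfsg.Agent.Schreier.Basic.eq_bot_of_perfect_of_solvable (Perf.HO_perfect S hF) h1
  have h3 : S.n1 ∈ S.HO := Perf.n1_mem_HO S
  rw [h2, mem_bot] at h3
  obtain ⟨x, hx, hx1⟩ := S.zsys8.exists_ne 1
  have h4 : S.n1 * x * S.n1⁻¹ ∈ S.XZ 9 := S.n1_refl.mem' hx (by norm_num)
  rw [h3, one_mul, inv_one, mul_one] at h4
  exact hx1 (X9_inf_U S h4 (mem_J hx le_rfl (by norm_num)))

theorem normU_le (hF : ∃ c : Fˣ, c ≠ 1) (hR : S.R.p = 2) {M : Subgroup G} (h1 : J S.XZ 1 8 ≤ M) (h2 : S.T ≤ M) :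
    normalizer (J S.XZ 1 8 : Set G) ≤ M := by
  intro g hg
  obtain ⟨b, hb, t, ht, rfl⟩ := SylU.norm_U S hF hR (g := g) (fun x => mem_normalizer_iff.1 hg x)
  exact mul_mem (h1 hb) (h2 ht)

/-- **No radical automorphism of odd prime order fixes an involution.** -/
theorem eq_one_of_inv (hF : ∃ c : Fˣ, c ≠ 1) (hR : S.R.p = 2) {Q : BNPair G} {U : Subgroup G}
    (hsp : Cfsg.Agent.FixBN.Split Q 2 U) {s t : G} (hS : Q.S = {s, t}) {p : ℕ} [hp : Fact p.Prime] (hp2 : p ≠ 2)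
    {x : MulAut G} (h : RC x) (hxp : x ^ p = 1) {v : G} (hv : v * v = 1) (hv1 : v ≠ 1) (hxv : x v = v) : x = 1 := by
  have : Fact (Nat.Prime 2) := ⟨Nat.prime_two⟩
  obtain ⟨U₁, hU₁⟩ := SylU.exists_sylow S hF hR
  have key : ∀ {k w : G}, k * v * k⁻¹ = w → cx x k⁻¹ w = w := by
    rintro k _ rfl
    rw [cx_apply]
    have e : k⁻¹ * (k * v * k⁻¹) * k⁻¹⁻¹ = v := by group
    rw [e, hxv, inv_inv]
  have hlt : ∀ {M : Subgroup G} {n : G}, J S.XZ 1 8 ≤ M → S.T ≤ M → n ∈ M →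
      ¬ (∀ x ∈ J S.XZ 1 8, n * x * n⁻¹ ∈ J S.XZ 1 8) → normalizer ((U₁ : Subgroup G) : Set G) < M := by
    intro M n h1 h2 h3 h4
    rw [hU₁]
    refine lt_of_le_of_ne (normU_le S hF hR h1 h2) ?_
    rintro rfl
    exact h4 fun x hx => (mem_normalizer_iff.1 h3 x).1 hx
  have hU19 : J S.XZ 1 8 ≤ PW S := (J_mono (by norm_num) (by norm_num)).trans (J19_le_PW S)
  have main : ∀ {M : Subgroup G} {g₀ : G}, M = P S ∨ M = PW S → Iv (cx x g₀) M → x = 1 := by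
    intro M g₀ hM hx
    refine Cfsg.Agent.H84.RkTwo.eq_one_of_two Q hsp hS U₁ (M₁ := P S) (M₂ := PW S) ?_ ?_ ?_ ?_ ?_ ?_
      (PS_not_solvable S hF) (PW_not_solvable S hF) hp2 h hxp hM hx
    · rw [hU₁]
      exact Cfsg.Agent.SignalizersComponents.ComponentExists.isSolvable_of_le
        (normU_le S hF hR le_sup_left le_sup_right) (Perf.BT_solvable S hR)
    · exact hlt (U_le_PS S) (T_le_P S) (n2_mem_PS S) (n2_notMem_U S)
    · exact hlt hU19 (T_le_PW S) (n1_mem_PW S) (n1_notMem_U S)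
    · intro h12
      exact n2_notMem_PW S (h12 ▸ n2_mem_PS S)
    · intro ht
      exact n1_notMem_PS S (ht ▸ mem_top _)
    · intro ht
      exact n2_notMem_PW S (ht ▸ mem_top _)
  rcases classes' S hF hR hv hv1 with ⟨u, hu, k, hk⟩ | ⟨u, hu, k, hk⟩
  · exact main (Or.inl rfl) (iv_PS S ⟨u, rfl⟩ (fun h => hu (S.e_eq_one h).2) (key hk))
  · exact main (Or.inr rfl) (iv_PW S hF hR hu (key hk))

end Cfsg.Agent.H84.CoreTwF
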