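import Cfsg.Agent.H84.CoreTwFA
import Cfsg.Agent.H84.CoreTwFB
import Cfsg.Agent.H84.CoreTwFD
import Cfsg.Agent.H496.TwFRad.Out

/-!
# `Core` for `²F₄(q)`, `q ≥ 8` (task 861, for S3833, S3834, S3840)
-/

set_option autoImplicit false
set_option linter.unusedSectionVars false

namespace Cfsg.Agent.H84.CoreTwF

open Subgroup Cfsg Cfsg.Lie Cfsg.Agent.H460.AA Cfsg.Agent.H459.Rad

/-- some power of a 2-element is an involution -/
theorem exists_involution {G : Type*} [Group G] {v : G} (hv : v ≠ 1) : ∀ k : ℕ, v ^ 2 ^ k = 1 →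
    ∃ n : ℕ, v ^ n ≠ 1 ∧ v ^ n * v ^ n = 1 := by
  intro k
  induction k with
  | zero => intro h; exact absurd (by simpa using h) hv
  | succ k ih =>
    intro h
    by_cases h1 : v ^ 2 ^ k = 1
    · exact ih h1
    · exact ⟨2 ^ k, h1, by rw [← pow_add, ← two_mul, ← pow_succ', h]⟩

section Main

variable {F : Type} [Field F] [Fintype F] {m : ℕ} (hm : 1 ≤ m) (hK : Fintype.card F = 2 ^ (2 * m + 1))

include hm hK in
/-- a radical automorphism of odd prime order fixes no `2`-element -/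
theorem eq_one_of_fix {p : ℕ} [hp : Fact p.Prime] (hp2 : p ≠ 2) {x : MulAut ↥(twistedF4 F (2 ^ m))} (h : RC x)
    (hxp : x ^ p = 1) {v : ↥(twistedF4 F (2 ^ m))} (hv1 : v ≠ 1) (hxv : x v = v) {k : ℕ} (hk : v ^ 2 ^ k = 1) :
    x = 1 := by
  obtain ⟨n, h1, h2⟩ := exists_involution hv1 k hk
  have : CharP F 2 := Cfsg.Agent.ChevalleyStructure.F4Fixed.charP_two hK
  have hfin : Finite ↥(twistedF4 F (2 ^ m)) := inferInstance
  obtain ⟨φ, hφ⟩ := Cfsg.Agent.ChevalleyStructure.TwF4.TwistedFix.exists_rln hK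
  have hF := Cfsg.Agent.H496.TwFRad.Out.exists_unit hm hK
  obtain ⟨Q, U, s, t, hsp, hS, -⟩ := Cfsg.Agent.H410.TwFFour.exists_split hm hK
  exact eq_one_of_inv (Cfsg.Agent.KFacts.TwF4.Inst.full hK hφ) hF rfl hsp hS hp2 h hxp h2 h1
    (by rw [map_pow, hxv])

include hm hK in
theorem core_tw : Core ↥(twistedF4 F (2 ^ m)) := by
  intro p hp hp2 x hx hR hP
  have hxp : x ^ p = 1 := by rw [← hx]; exact pow_orderOf_eq_one x
  have hx1 : x ≠ 1 := by
    rintro rfl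
    rw [orderOf_one] at hx
    exact hp.out.one_lt.ne hx
  have : CharP F 2 := Cfsg.Agent.ChevalleyStructure.F4Fixed.charP_two hK
  have hfin : Finite ↥(twistedF4 F (2 ^ m)) := inferInstance
  obtain ⟨φ, hφ⟩ := Cfsg.Agent.ChevalleyStructure.TwF4.TwistedFix.exists_rln hK
  have hF := Cfsg.Agent.H496.TwFRad.Out.exists_unit hm hK
  obtain ⟨S, hS⟩ : ∃ S : Cfsg.Agent.KFacts.TwF4.Full φ ↥(twistedF4 F (2 ^ m)),
      S = Cfsg.Agent.KFacts.TwF4.Inst.full hK hφ := ⟨_, rfl⟩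
  have hRp : S.R.p = 2 := by rw [hS]; rfl
  have hcF : Nat.card F = 2 ^ (2 * m + 1) := by rw [Nat.card_eq_fintype_card, hK]
  rcases Cfsg.Agent.H496.TwFRad.Out.inner_or_fix hm hK hp.out hp2 hxp with ⟨a, rfl⟩ | ⟨v, hv1, hv2, hv⟩
  swap
  · exact hx1 (eq_one_of_fix hm hK hp2 hR hxp hv1 hv (k := 1) (by rw [pow_one, pow_two, hv2]))
  have hc : center ↥(twistedF4 F (2 ^ m)) = ⊥ := by
    rw [eq_bot_iff]
    intro z hz
    exact mem_bot.2 (Cfsg.Agent.KFacts.TwF4.OutTwo.center_eq_bot S hF fun g => mem_center_iff.1 hz g)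
  have ha : orderOf a = p := by rw [← hx]; exact (orderOf_injective _ (conj_injective hc) a).symm
  by_cases hd : p ∣ 2 ^ (2 * m + 1) - 1 ∨ p ∣ (2 ^ (2 * m + 1)) ^ 2 + 1
  · exact false_of_dvd S hm rfl hcF (Cfsg.Agent.S1068.result hK) hp2 hd ha hR
  · push Not at hd
    obtain ⟨v, hv1, hv, k, hk⟩ := exists_comm S hRp (p := p) hp2 (by
      rw [hcF, Nat.log_pow (by norm_num)]) (by rw [hcF]; exact hd.1) (by rw [hcF]; exact hd.2) (a := a) (pe_of_PA hc hP)
    refine hx1 (eq_one_of_fix hm hK hp2 hR hxp hv1 ?_ hk)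
    rw [MulAut.conj_apply, ← hv, mul_inv_cancel_right]

end Main

/-- **`Core` for `²F₄(q)`, `q ≥ 8`.** -/
theorem core_2F4 {K : Type*} [Group K] [Finite K] (h : Cfsg.Lie.Iso2F4 K) : Core K := by
  obtain ⟨F, _, _, m, hm, hK, ⟨e⟩⟩ := h
  exact (core_tw hm hK).of_equiv e

/-- radical automorphisms of odd prime order of `²F₄(q)`, `q ≥ 8`, fix no `2`-element -/
theorem eq_one_of_fix' {K : Type*} [Group K] [Finite K] (h : Cfsg.Lie.Iso2F4 K) {p : ℕ} [hp : Fact p.Prime] (hp2 : p ≠ 2)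
    {x : MulAut K} (hR : RC x) (hxp : x ^ p = 1) {v : K} (hv1 : v ≠ 1) (hxv : x v = v) {k : ℕ}
    (hk : v ^ 2 ^ k = 1) : x = 1 := by
  obtain ⟨F, _, _, m, hm, hK, ⟨e⟩⟩ := h
  have hfin : Finite ↥(twistedF4 F (2 ^ m)) := Finite.of_equiv K e.toEquiv
  have h1 : tr e x = 1 := by
    refine eq_one_of_fix hm hK hp2 (hR.tr e) ?_ (v := e v) ?_ ?_ (k := k) ?_
    · have h2 : tr e x ^ p = tr e (x ^ p) := (map_pow (trE e) x p).symm
      rw [h2, hxp]
      exact map_one (trE e)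
    · intro h2
      exact hv1 (e.injective (h2.trans (map_one e).symm))
    · rw [tr_apply, e.symm_apply_apply, hxv]
    · rw [← map_pow, hk, map_one]
  exact (trE e).injective (h1.trans (map_one (trE e)).symm)

end Cfsg.Agent.H84.CoreTwF
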