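import Cfsg.Agent.H459.Gallery
import Cfsg.Agent.FixBN.Split
import Cfsg.Agent.SmallSimple.SylowMaxInter

/-!
# Radical automorphisms of odd order of a rank two group with non-solvable panels (task 861)

`eq_one_of_par`: `S = {s, t}`, the minimal parabolic subgroups are not solvable, `x` is a radical automorphism of odd
prime order leaving a proper overgroup of the normaliser of a Sylow 2-subgroup invariant: `x = 1`.
-/

set_option autoImplicit false
set_option linter.unusedSectionVars false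

namespace Cfsg.Agent.H84.RkTwo

open Subgroup Cfsg Cfsg.Agent.H459.Rad Cfsg.Agent.H459.Gallery Cfsg.Agent.Schreier.BNSch Cfsg.Agent.FixBN

variable {K : Type*} [Group K] [Finite K] (P : BNPair K)

theorem map_pow_two {z : MulAut K} {A B : Subgroup K} (h1 : A.map z.toMonoidHom = B) (h2 : B.map z.toMonoidHom = A) :
    ∀ n : ℕ, A.map (z ^ (2 * n + 1)).toMonoidHom = B := by
  have hmul : ∀ (f g : MulAut K) (C : Subgroup K), C.map (f * g).toMonoidHom = (C.map g.toMonoidHom).map f.toMonoidHom := by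
    intro f g C
    rw [Subgroup.map_map]
    rfl
  intro n
  induction n with
  | zero => simpa using h1
  | succ n ih =>
    have e : z ^ (2 * (n + 1) + 1) = z * (z * z ^ (2 * n + 1)) := by
      rw [← pow_succ', ← pow_succ']
      congr 1
    rw [e, hmul, hmul, ih, h2, h1]

/-- automorphisms of odd order modulo `B` fix the two minimal parabolic subgroups -/
theorem rig {s t : K} (hS : P.S = {s, t}) {p : ℕ} (hp : p.Prime) (hp2 : p ≠ 2) {z : MulAut K} (hz : Iv z P.B)
    (hzp : ∃ b ∈ P.B, z ^ p = MulAut.conj b) : ∀ u ∈ P.S, Iv z (P.parabolic {u}) := by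
  obtain ⟨b, hb, hzp⟩ := hzp
  have key : ∀ {u v : K}, P.S = {u, v} → Iv z (P.parabolic {u}) := by
    intro u v hS
    have hu : u ∈ P.S := by rw [hS]; exact Or.inl rfl
    have hv : v ∈ P.S := by rw [hS]; exact Or.inr rfl
    have hmem : ∀ w ∈ P.S, w = u ∨ w = v := fun w hw => by rw [hS] at hw; exact hw
    obtain ⟨w, hw, hwe⟩ := exists_map_eq P z hz.map_eq hu
    rcases hmem w hw with rfl | rfl
    · exact iv_of_map_eq hwe
    obtain ⟨w', hw', hwe'⟩ := exists_map_eq P z hz.map_eq hv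
    rcases hmem w' hw' with rfl | rfl
    · obtain ⟨n, hn⟩ := hp.odd_of_ne_two hp2
      have h1 := map_pow_two hwe hwe' n
      rw [← hn, hzp] at h1
      have h2 : (P.parabolic {w'}).map (MulAut.conj b).toMonoidHom = P.parabolic {w'} :=
        mem_normalizer_iff_map_conj_eq.1 (le_normalizer (B_le_parabolic P _ hb))
      rw [h2] at h1
      refine iv_of_map_eq ?_
      rw [hwe, ← h1]
    · have h1 : P.parabolic {u} = P.parabolic {w'} := Subgroup.map_injective z.injective (hwe.trans hwe'.symm)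
      refine iv_of_map_eq ?_
      rw [hwe, ← h1]
  intro u hu
  have hu' := hu
  rw [hS] at hu'
  rcases hu' with rfl | rfl
  · exact key hS
  · exact key (by rw [hS]; exact Set.pair_comm _ _)

theorem pow_cx (x : MulAut K) (g : K) (n : ℕ) : (cx x g) ^ n = cx (x ^ n) g := by
  have e : ∀ x : MulAut K, cx x g = (MulAut.conj g)⁻¹ * x * ((MulAut.conj g)⁻¹)⁻¹ := fun x => by rw [inv_inv]; rfl
  rw [e, conj_pow, e]

/-- the engine: from an invariant proper standard parabolic subgroup -/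
theorem eq_one_of_std (hcore : P.B.normalCore = ⊥) {s t : K} (hS : P.S = {s, t}) (hBs : Group.IsSolvable P.B)
    (hns : ∀ u ∈ P.S, ¬ Group.IsSolvable (P.parabolic {u})) (hne : ∀ u ∈ P.S, P.parabolic {u} ≠ ⊤) {p : ℕ}
    [hp : Fact p.Prime] (hp2 : p ≠ 2) [Fact (Nat.Prime 2)] (U : Sylow 2 K)
    (hU : normalizer ((U : Subgroup K) : Set K) = P.B) {x : MulAut K} (h : RC x) (hxp : x ^ p = 1)
    {J₀ : Set K} (hJ₀ : J₀ ⊆ P.S) (hneJ : J₀ ≠ P.S) {g₀ : K} (hg₀ : Iv (cx x g₀) (P.parabolic J₀)) : x = 1 := by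
  obtain ⟨g, hg⟩ := exists_borel P U hU h hxp hBs (fun z hz hzp => rig P hS hp.out hp2 hz hzp)
    (fun u hu hsol => absurd hsol (hns u hu)) hJ₀ hneJ hg₀
  have h1 : ∀ k : K, k⁻¹ * cx x g k ∈ P.B := all_fixed P (h.cx g) hBs hne (fun k hk => by
    refine rig P hS hp.out hp2 hk ⟨1, one_mem _, ?_⟩
    rw [cx_cx, pow_cx, hxp]
    ext a
    rw [cx_apply]
    show (g * k)⁻¹ * ((g * k) * a * (g * k)⁻¹) * (g * k) = 1 * a * 1⁻¹
    group) (fun k hk u hu hsol => absurd hsol (hns u hu)) hg
  have h2 := eq_one P hcore h1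
  ext a
  have h3 : cx x g (g⁻¹ * a * g) = g⁻¹ * a * g := by rw [h2]; rfl
  rw [cx_apply] at h3
  have e1 : g * (g⁻¹ * a * g) * g⁻¹ = a := by group
  rw [e1] at h3
  calc x a = g * (g⁻¹ * x a * g) * g⁻¹ := by group
    _ = a := by rw [h3]; group

/-- the unipotent radical is a Sylow subgroup (as in `H459.RgdRad`) -/
theorem exists_sylow {P : BNPair K} {r : ℕ} [Fact r.Prime] {U : Subgroup K} (S : Split P r U) :
    ∃ U' : Sylow r K, (U' : Subgroup K) = U := by
  obtain ⟨Q, hQ⟩ := IsPGroup.exists_le_sylow S.isP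
  refine ⟨Q, ?_⟩
  by_contra hne
  have h4 := SmallSimple.SylowMaxInter.lt_inf_normalizer Q.isPGroup' (lt_of_le_of_ne hQ (Ne.symm hne))
  refine absurd h4 (not_lt_of_ge ?_)
  rintro g ⟨hgQ, hgN⟩
  rw [S.normalizer_eq] at hgN
  obtain ⟨k, hk⟩ := Q.isPGroup' ⟨g, hgQ⟩
  exact S.mem_of_pow hgN (n := k) (congrArg Subtype.val hk)

/-- two maximal subgroups `M₁, M₂` above the normaliser of a Sylow 2-subgroup -/
theorem eq_one_of_two {U : Subgroup K} [Fact (Nat.Prime 2)] (hsp : Split P 2 U) {s t : K} (hS : P.S = {s, t})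
    (U₁ : Sylow 2 K) {M₁ M₂ : Subgroup K} (hB : Group.IsSolvable (normalizer ((U₁ : Subgroup K) : Set K)))
    (h1 : normalizer ((U₁ : Subgroup K) : Set K) < M₁) (h2 : normalizer ((U₁ : Subgroup K) : Set K) < M₂)
    (h12 : M₁ ≠ M₂) (ht1 : M₁ ≠ ⊤) (ht2 : M₂ ≠ ⊤) (hn1 : ¬ Group.IsSolvable M₁) (hn2 : ¬ Group.IsSolvable M₂)
    {p : ℕ} [hp : Fact p.Prime] (hp2 : p ≠ 2) {x : MulAut K} (h : RC x) (hxp : x ^ p = 1) {M : Subgroup K}
    (hM : M = M₁ ∨ M = M₂) {g₀ : K} (hx : Iv (cx x g₀) M) : x = 1 := by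
  obtain ⟨U', hU'⟩ := exists_sylow hsp
  have hN : normalizer ((U' : Subgroup K) : Set K) = P.B := by rw [hU']; exact hsp.normalizer_eq
  obtain ⟨g, hg⟩ := MulAction.exists_smul_eq K U₁ U'
  have hNg : (normalizer ((U₁ : Subgroup K) : Set K)).map (MulAut.conj g).toMonoidHom = P.B := by
    rw [← hN, ← hg, Sylow.coe_subgroup_smul]
    exact Subgroup.map_equiv_normalizer_eq (U₁ : Subgroup K) (MulAut.conj g)
  have hlt : ∀ {M : Subgroup K}, normalizer ((U₁ : Subgroup K) : Set K) < M → P.B < M.map (MulAut.conj g).toMonoidHom := by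
    intro M hM
    rw [← hNg]
    exact (Subgroup.map_lt_map_iff_of_injective (MulAut.conj g).injective).2 hM
  have hnt : ∀ {M : Subgroup K}, M ≠ ⊤ → M.map (MulAut.conj g).toMonoidHom ≠ ⊤ := by
    intro M hM h3
    apply hM
    apply Subgroup.map_injective (f := (MulAut.conj g).toMonoidHom) (MulAut.conj g).injective
    rw [h3]
    exact (Subgroup.map_top_of_surjective _ (MulAut.conj g).surjective).symm
  have hns : ∀ {M : Subgroup K}, ¬ Group.IsSolvable M → ¬ Group.IsSolvable ↥(M.map (MulAut.conj g).toMonoidHom) := by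
    intro M hM h3
    apply hM
    exact Group.isSolvable_of_surjective
      (f := (M.equivMapOfInjective (MulAut.conj g).toMonoidHom (MulAut.conj g).injective).symm.toMonoidHom)
      (M.equivMapOfInjective (MulAut.conj g).toMonoidHom (MulAut.conj g).injective).symm.surjective
  have hBs : Group.IsSolvable P.B := by
    rw [← hNg]
    exact Cfsg.Agent.SignalizersComponents.ComponentExists.isSolvable_map hB _
  -- proper parabolic subgroups above `B`
  have hpar : ∀ {M : Subgroup K}, P.B < M → M ≠ ⊤ → ∃ u ∈ P.S, M = P.parabolic {u} := by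
    intro M h1 h2
    obtain ⟨J, hJ, hMJ⟩ := Cfsg.Agent.S0311.result P M h1.le
    have hJ0 : J.Nonempty := by
      rw [Set.nonempty_iff_ne_empty]
      rintro rfl
      rw [hMJ, parabolic_empty] at h1
      exact lt_irrefl _ h1
    obtain ⟨u, hu⟩ := hJ0
    refine ⟨u, hJ hu, ?_⟩
    have hJu : J = {u} := by
      by_contra hne
      obtain ⟨v, hv, hvu⟩ : ∃ v ∈ J, v ≠ u := by
        by_contra hcon
        push Not at hcon
        exact hne (Set.eq_singleton_iff_unique_mem.2 ⟨hu, hcon⟩)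
      apply h2
      rw [hMJ, eq_top_iff, ← sup_closure_eq_top P]
      refine sup_le (B_le_parabolic P _) ?_
      rw [closure_le]
      have hsub : P.S ⊆ J := by
        rw [hS]
        have hu' := hJ hu
        have hv' := hJ hv
        rw [hS] at hu' hv'
        rintro w (rfl | rfl)
        · rcases hu' with rfl | rfl
          · exact hu
          · rcases hv' with rfl | rfl
            · exact hv
            · exact absurd rfl hvu
        · rcases hu' with rfl | rfl
          · rcases hv' with rfl | rfl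
            · exact absurd rfl hvu
            · exact hv
          · exact hu
      intro w hw
      exact (le_sup_right : closure J ≤ P.parabolic J) (subset_closure (hsub hw))
    rw [hMJ, hJu]
  obtain ⟨u1, hu1, e1⟩ := hpar (hlt h1) (hnt ht1)
  obtain ⟨u2, hu2, e2⟩ := hpar (hlt h2) (hnt ht2)
  have hu12 : u1 ≠ u2 := by
    rintro rfl
    apply h12
    exact Subgroup.map_injective (f := (MulAut.conj g).toMonoidHom) (MulAut.conj g).injective (e1.trans e2.symm)
  have hall : ∀ u ∈ P.S, u = u1 ∨ u = u2 := by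
    intro u hu
    rw [hS] at hu hu1 hu2
    rcases hu with rfl | rfl <;> rcases hu1 with rfl | rfl <;> rcases hu2 with rfl | rfl <;> simp_all
  have hne1 : ∀ u ∈ P.S, P.parabolic {u} ≠ ⊤ := by
    intro u hu
    rcases hall u hu with rfl | rfl
    · rw [← e1]; exact hnt ht1
    · rw [← e2]; exact hnt ht2
  have hns1 : ∀ u ∈ P.S, ¬ Group.IsSolvable (P.parabolic {u}) := by
    intro u hu
    rcases hall u hu with rfl | rfl
    · rw [← e1]; exact hns hn1
    · rw [← e2]; exact hns hn2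
  -- the invariant one
  obtain ⟨u, hu, hMu⟩ : ∃ u ∈ P.S, M.map (MulAut.conj g).toMonoidHom = P.parabolic {u} := by
    rcases hM with rfl | rfl
    · exact ⟨u1, hu1, e1⟩
    · exact ⟨u2, hu2, e2⟩
  refine eq_one_of_std P hsp.core hS hBs hns1 hne1 hp2 U' hN h hxp (J₀ := {u}) (Set.singleton_subset_iff.2 hu) ?_
    (g₀ := g₀ * g⁻¹) ?_
  · intro h3
    apply hu12
    have k1 : u1 ∈ ({u} : Set K) := by rw [h3]; exact hu1
    have k2 : u2 ∈ ({u} : Set K) := by rw [h3]; exact hu2
    rw [Set.mem_singleton_iff] at k1 k2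
    rw [k1, k2]
  · rw [← hMu, ← cx_cx]
    rintro _ ⟨m, hm, rfl⟩
    refine ⟨cx x g₀ m, hx m hm, ?_⟩
    rw [cx_apply (cx x g₀) g⁻¹]
    show g * cx x g₀ m * g⁻¹ = _
    have e : g⁻¹ * (g * m * g⁻¹) * g⁻¹⁻¹ = m := by group
    show _ = g⁻¹⁻¹ * (cx x g₀) (g⁻¹ * (g * m * g⁻¹) * g⁻¹⁻¹) * g⁻¹
    rw [e, inv_inv]

end Cfsg.Agent.H84.RkTwo
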