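import Cfsg.Agent.H121.Chr

/-!
# A lower bound for degrees: an abelian subgroup with a nondegenerate action (task 1485, for S4228)
-/

set_option autoImplicit false

namespace Cfsg.Agent.H84.FpfHeis

open Module Cfsg.Agent.H121.Wt Cfsg.Agent.H121.Chr

/-- an abelian subgroup `{Z z * y 0 b₀ * y 1 b₁ * y 2 b₂ * y 3 b₃}` with elements `g i t` acting by shifts -/
structure Heis (F : Type*) [Field F] (G : Type*) [Group G] where
  Z : F → G
  y : Fin 4 → F → G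
  g : Fin 4 → F → G
  Z_add : ∀ u v, Z (u + v) = Z u * Z v
  y_add : ∀ i u v, y i (u + v) = y i u * y i v
  Zy : ∀ u i v, Commute (Z u) (y i v)
  yy : ∀ i j u v, Commute (y i u) (y j v)
  gZ : ∀ i t u, Commute (g i t) (Z u)
  gy : ∀ i j t u, g i t * y j u = y j u * Z (if i = j then t * u else 0) * g i t

variable {F : Type*} [Field F] {G : Type*} [Group G] (H : Heis F G)

namespace Heis

theorem Z_zero : H.Z 0 = 1 := by
  have h := H.Z_add 0 0
  rw [add_zero] at h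
  exact mul_eq_left.1 h.symm

/-- shift relation -/
def Sh (h : G) (c : Fin 4 → F) : Prop :=
  (∀ u, Commute h (H.Z u)) ∧ ∀ j u, h * H.y j u = H.y j u * H.Z (c j * u) * h

theorem Sh.mul {h h' : G} {c c' : Fin 4 → F} (a : H.Sh h c) (b : H.Sh h' c') : H.Sh (h * h') (c + c') := by
  refine ⟨fun u => (a.1 u).mul_left (b.1 u), fun j u => ?_⟩
  calc h * h' * H.y j u = h * (h' * H.y j u) := by group
    _ = (h * H.y j u) * H.Z (c' j * u) * h' := by rw [b.2]; group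
    _ = H.y j u * H.Z (c j * u) * (h * H.Z (c' j * u)) * h' := by rw [a.2]; group
    _ = H.y j u * (H.Z (c j * u) * H.Z (c' j * u)) * (h * h') := by rw [(a.1 _).eq]; group
    _ = _ := by rw [← H.Z_add, Pi.add_apply, add_mul]

theorem sh_g (i : Fin 4) (t : F) : H.Sh (H.g i t) (Pi.single i t) := by
  refine ⟨fun u => H.gZ i t u, fun j u => ?_⟩
  rw [H.gy]
  by_cases h : i = j
  · subst h; rw [if_pos rfl, Pi.single_eq_same]
  · rw [if_neg h, Pi.single_eq_of_ne (Ne.symm h), zero_mul]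

/-- the acting elements -/
def gg (c : Fin 4 → F) : G := H.g 0 (c 0) * H.g 1 (c 1) * H.g 2 (c 2) * H.g 3 (c 3)

theorem sh_gg (c : Fin 4 → F) : H.Sh (H.gg c) c := by
  have h := (((H.sh_g 0 (c 0)).mul H (H.sh_g 1 (c 1))).mul H (H.sh_g 2 (c 2))).mul H (H.sh_g 3 (c 3))
  have e : Pi.single 0 (c 0) + Pi.single 1 (c 1) + Pi.single 2 (c 2) + Pi.single 3 (c 3) = c := by
    funext i
    fin_cases i <;> simp [Pi.single_apply]
  rw [e] at h
  exact h

/-- the abelian subgroup -/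
def xx (a : F × (Fin 4 → F)) : G := H.Z a.1 * (H.y 0 (a.2 0) * H.y 1 (a.2 1) * H.y 2 (a.2 2) * H.y 3 (a.2 3))

theorem xx_add (a b : F × (Fin 4 → F)) : H.xx (a + b) = H.xx a * H.xx b := by
  have hZ := fun i => (H.Zy b.1 i (a.2 i)).eq
  unfold xx
  simp only [Prod.fst_add, Prod.snd_add, Pi.add_apply]
  rw [H.Z_add, H.y_add, H.y_add, H.y_add, H.y_add]
  have c01 : Commute (H.y 1 (a.2 1)) (H.y 0 (b.2 0)) := H.yy _ _ _ _
  have c02 : Commute (H.y 2 (a.2 2)) (H.y 0 (b.2 0) * H.y 1 (b.2 1)) := (H.yy _ _ _ _).mul_right (H.yy _ _ _ _)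
  have c03 : Commute (H.y 3 (a.2 3)) (H.y 0 (b.2 0) * H.y 1 (b.2 1) * H.y 2 (b.2 2)) :=
    ((H.yy _ _ _ _).mul_right (H.yy _ _ _ _)).mul_right (H.yy _ _ _ _)
  have cz : Commute (H.y 0 (a.2 0) * H.y 1 (a.2 1) * H.y 2 (a.2 2) * H.y 3 (a.2 3)) (H.Z b.1) :=
    ((((H.Zy _ _ _).symm.mul_left (H.Zy _ _ _).symm).mul_left (H.Zy _ _ _).symm).mul_left (H.Zy _ _ _).symm)
  calc H.Z a.1 * H.Z b.1 * (H.y 0 (a.2 0) * H.y 0 (b.2 0) * (H.y 1 (a.2 1) * H.y 1 (b.2 1)) *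
        (H.y 2 (a.2 2) * H.y 2 (b.2 2)) * (H.y 3 (a.2 3) * H.y 3 (b.2 3)))
      = H.Z a.1 * H.Z b.1 * (H.y 0 (a.2 0) * (H.y 0 (b.2 0) * H.y 1 (a.2 1)) * H.y 1 (b.2 1) *
        (H.y 2 (a.2 2) * H.y 2 (b.2 2)) * (H.y 3 (a.2 3) * H.y 3 (b.2 3))) := by group
    _ = H.Z a.1 * H.Z b.1 * (H.y 0 (a.2 0) * H.y 1 (a.2 1) * ((H.y 0 (b.2 0) * H.y 1 (b.2 1)) *
        H.y 2 (a.2 2)) * H.y 2 (b.2 2) * (H.y 3 (a.2 3) * H.y 3 (b.2 3))) := by rw [← c01.eq]; group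
    _ = H.Z a.1 * H.Z b.1 * (H.y 0 (a.2 0) * H.y 1 (a.2 1) * H.y 2 (a.2 2) *
        ((H.y 0 (b.2 0) * H.y 1 (b.2 1) * H.y 2 (b.2 2)) * H.y 3 (a.2 3)) * H.y 3 (b.2 3)) := by rw [← c02.eq]; group
    _ = H.Z a.1 * (H.Z b.1 * (H.y 0 (a.2 0) * H.y 1 (a.2 1) * H.y 2 (a.2 2) * H.y 3 (a.2 3))) *
        (H.y 0 (b.2 0) * H.y 1 (b.2 1) * H.y 2 (b.2 2) * H.y 3 (b.2 3)) := by rw [← c03.eq]; group
    _ = _ := by rw [← cz.eq]; group

/-- the linear form of `c` -/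
def lin (c b : Fin 4 → F) : F := c 0 * b 0 + c 1 * b 1 + c 2 * b 2 + c 3 * b 3

theorem sh_xx {h : G} {c : Fin 4 → F} (a : H.Sh h c) (x : F × (Fin 4 → F)) :
    h * H.xx x = H.xx (x.1 + lin c x.2, x.2) * h := by
  have key : ∀ j u, h * H.y j u = H.Z (c j * u) * H.y j u * h := fun j u => by
    rw [a.2, (H.Zy (c j * u) j u).eq]
  unfold xx lin
  dsimp only
  rw [H.Z_add, H.Z_add, H.Z_add, H.Z_add]
  have z1 := fun u => (H.Zy u 0 (x.2 0)).eq
  have z2 := fun u => (H.Zy u 1 (x.2 1)).eq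
  have z3 := fun u => (H.Zy u 2 (x.2 2)).eq
  have c1 : Commute (H.y 0 (x.2 0)) (H.Z (c 1 * x.2 1)) := (H.Zy _ _ _).symm
  have c2 : Commute (H.y 0 (x.2 0) * H.y 1 (x.2 1)) (H.Z (c 2 * x.2 2)) := (H.Zy _ _ _).symm.mul_left (H.Zy _ _ _).symm
  have c3 : Commute (H.y 0 (x.2 0) * H.y 1 (x.2 1) * H.y 2 (x.2 2)) (H.Z (c 3 * x.2 3)) :=
    ((H.Zy _ _ _).symm.mul_left (H.Zy _ _ _).symm).mul_left (H.Zy _ _ _).symm
  calc h * (H.Z x.1 * (H.y 0 (x.2 0) * H.y 1 (x.2 1) * H.y 2 (x.2 2) * H.y 3 (x.2 3)))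
      = H.Z x.1 * (h * H.y 0 (x.2 0)) * H.y 1 (x.2 1) * H.y 2 (x.2 2) * H.y 3 (x.2 3) := by
        rw [← mul_assoc h, (a.1 _).eq]; group
    _ = H.Z x.1 * H.Z (c 0 * x.2 0) * H.y 0 (x.2 0) * (h * H.y 1 (x.2 1)) * H.y 2 (x.2 2) * H.y 3 (x.2 3) := by
        rw [key]; group
    _ = H.Z x.1 * H.Z (c 0 * x.2 0) * (H.y 0 (x.2 0) * H.Z (c 1 * x.2 1)) * H.y 1 (x.2 1) * (h * H.y 2 (x.2 2)) *
        H.y 3 (x.2 3) := by rw [key]; group
    _ = H.Z x.1 * H.Z (c 0 * x.2 0) * H.Z (c 1 * x.2 1) * ((H.y 0 (x.2 0) * H.y 1 (x.2 1)) * H.Z (c 2 * x.2 2)) *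
        H.y 2 (x.2 2) * (h * H.y 3 (x.2 3)) := by rw [c1.eq, key]; group
    _ = H.Z x.1 * H.Z (c 0 * x.2 0) * H.Z (c 1 * x.2 1) * H.Z (c 2 * x.2 2) *
        ((H.y 0 (x.2 0) * H.y 1 (x.2 1) * H.y 2 (x.2 2)) * H.Z (c 3 * x.2 3)) * H.y 3 (x.2 3) * h := by
        rw [c2.eq, key]; group
    _ = _ := by rw [c3.eq]; group

/-- the shift as a homomorphism -/
def shf (c : Fin 4 → F) : F × (Fin 4 → F) →+ F × (Fin 4 → F) where
  toFun x := (x.1 - lin c x.2, x.2)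
  map_zero' := by ext <;> simp [lin]
  map_add' x y := by
    ext
    · simp only [lin, Prod.fst_add, Prod.snd_add, Pi.add_apply]; ring
    · simp only [Prod.snd_add]

theorem shf_apply (c : Fin 4 → F) (x : F × (Fin 4 → F)) : shf c x = (x.1 - lin c x.2, x.2) := rfl

/-- **The bound** -/
theorem bound [Finite F] {V : Type*} [AddCommGroup V] [Module ℂ V] [FiniteDimensional ℂ V]
    (ρ : Representation ℂ G V) {u₀ : F} (hu : ρ (H.Z u₀) ≠ 1) : Nat.card F ^ 4 ≤ finrank ℂ V := by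
  classical
  haveI := Fintype.ofFinite F
  have hact : IsAct (fun a => ρ (H.xx a)) := isAct_of ρ H.xx_add
  have h0 : H.xx (u₀, 0) = H.Z u₀ := by
    have hy : ∀ i, H.y i 0 = 1 := fun i => by
      have h := H.y_add i 0 0
      rw [add_zero] at h
      exact mul_eq_left.1 h.symm
    unfold xx
    simp only [Pi.zero_apply, hy, mul_one]
  obtain ⟨χ, hχ, hne⟩ := exists_wt hact (a := (u₀, 0)) (by show ρ (H.xx (u₀, 0)) ≠ 1; rw [h0]; exact hu)
  -- the weights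
  let w : (Fin 4 → F) → AddChar (F × (Fin 4 → F)) ℂ := fun c => χ.compAddMonoidHom (shf c)
  have hw : ∀ c x, w c x = χ (x.1 - lin c x.2, x.2) := fun c x => rfl
  have hinj : Function.Injective w := by
    intro c c' hcc
    have key : ∀ b : Fin 4 → F, χ (lin c' b - lin c b, 0) = 1 := by
      intro b
      have h1 := DFunLike.congr_fun hcc (lin c' b, b)
      rw [hw, hw, sub_self] at h1
      have h2 : ((lin c' b - lin c b, b) : F × (Fin 4 → F)) = (lin c' b - lin c b, 0) + (0, b) := by simp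
      dsimp only at h1
      rw [h2, AddChar.map_add_eq_mul] at h1
      exact mul_right_cancel₀ (ne_zero' χ (0, b)) (h1.trans (one_mul _).symm)
    funext i
    by_contra hi
    have hd : c' i - c i ≠ 0 := sub_ne_zero.2 (Ne.symm hi)
    apply hne
    have h3 := key (Pi.single i (u₀ / (c' i - c i)))
    have h4 : lin c' (Pi.single i (u₀ / (c' i - c i))) - lin c (Pi.single i (u₀ / (c' i - c i))) = u₀ := by
      have h5 : ∀ c'' : Fin 4 → F, ∀ t, lin c'' (Pi.single i t) = c'' i * t := by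
        intro c'' t
        unfold lin
        fin_cases i <;> simp [Pi.single_apply]
      rw [h5, h5, ← sub_mul, mul_div_cancel₀ _ hd]
    rwa [h4] at h3
  have hrk : ∀ c, 1 ≤ finrank ℂ (wt (fun a => ρ (H.xx a)) (w c)) := by
    intro c
    have h1 : 1 ≤ finrank ℂ (wt (fun a => ρ (H.xx a)) χ) := by
      rw [Nat.one_le_iff_ne_zero, Ne, Submodule.finrank_eq_zero]
      exact hχ
    refine h1.trans (le_of_eq ?_)
    refine finrank_wt_eq ρ (g := H.gg c) (f := fun x => (x.1 + lin c x.2, x.2)) (fun a => H.sh_xx (H.sh_gg c) a) ?_ ?_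
    · rw [Function.bijective_iff_has_inverse]
      exact ⟨fun x => (x.1 - lin c x.2, x.2), fun x => by simp, fun x => by simp⟩
    · intro a
      rw [hw]
      simp
  have h1 := mul_card_le hact (Finset.univ.image w) 1 (by
    intro χ' h
    obtain ⟨c, -, rfl⟩ := Finset.mem_image.1 h
    exact hrk c)
  rw [Finset.card_image_of_injective _ hinj, one_mul, Finset.card_univ, Fintype.card_fun, Fintype.card_fin] at h1
  rwa [Nat.card_eq_fintype_card]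

end Heis

end Cfsg.Agent.H84.FpfHeis
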