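import Cfsg.Agent.H84.GaussTwF4

/-!
# A weak form of Gauss decomposition with prescribed torus part in `²F₄(q)`

`S : Full σ G`, `F` finite: every non-trivial element is, for each `d`, conjugate to `v * (l * h 1 d) * u` with
`v ∈ J 9 15`, `l ∈ ⟨X_0, X_8⟩`, `u ∈ J 1 7`.
-/

set_option autoImplicit false
set_option linter.unusedSectionVars false

namespace Cfsg.Agent.H84.GaussTwF4

open Cfsg.Agent.SplitTwo Cfsg.Agent.SplitTwo.ZS Cfsg.Agent.TitsThree.RankTwoZ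
open Cfsg.Agent.KFacts.TwF4 Cfsg.Agent.KFacts.TwF4.Arc Cfsg.Agent.KFacts.TwF4.Inv
open Cfsg.Agent.H84.TwF4Two

universe u

variable {F : Type*} [Field F] {σ : F →+* F} {G : Type u} [Group G] (S : Full σ G)

/-- the Levi factor -/
def LL : Subgroup G := S.XZ 8 ⊔ S.XZ 0

variable {S}

theorem X8_le : S.XZ 8 ≤ LL S := le_sup_left
theorem X0_le : S.XZ 0 ≤ LL S := le_sup_right

theorem X16_le : S.XZ 16 ≤ LL S := by
  have := XZ_per S 0
  rw [zero_add] at this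
  rw [this]; exact X0_le

theorem LL_le : LL S ≤ J S.XZ 0 8 :=
  sup_le (X_le_J (by norm_num) (by norm_num)) (X_le_J (by norm_num) (by norm_num))

theorem LL_le' : LL S ≤ J S.XZ 8 16 := by
  refine sup_le (X_le_J (by norm_num) (by norm_num)) ?_
  have := XZ_per S 0
  rw [zero_add] at this
  rw [← this]
  exact X_le_J (by norm_num) (by norm_num)

theorem LL_conj17 {l u : G} (hl : l ∈ LL S) (hu : u ∈ J S.XZ 1 7) : l * u * l⁻¹ ∈ J S.XZ 1 7 :=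
  S.zsys8.conj_J (a := 1) (b := 7) (by norm_num) (by norm_num) (by norm_num) (LL_le hl) hu

theorem LL_conj915 {l u : G} (hl : l ∈ LL S) (hu : u ∈ J S.XZ 9 15) : l * u * l⁻¹ ∈ J S.XZ 9 15 :=
  S.zsys8.conj_J (a := 9) (b := 15) (by norm_num) (by norm_num) (by norm_num) (LL_le' hl) hu

theorem n2_mem_LL : S.n2 ∈ LL S := by
  rw [S.n2_word]
  have h8 : ∀ p u, S.e 4 p u ∈ LL S := fun p u => X8_le (by have := S.e_mem 4 p u; push_cast at this; exact this)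
  have h0 : ∀ p u, S.e 0 p u ∈ LL S := fun p u => X0_le (by have := S.e_mem 0 p u; push_cast at this; exact this)
  exact mul_mem (mul_mem (h8 _ _) (h0 _ _)) (h8 _ _)

theorem T_conj_LL {t : G} (ht : t ∈ S.T) {x : G} (hx : x ∈ LL S) : t * x * t⁻¹ ∈ LL S := by
  have : LL S ≤ (LL S).comap (MulAut.conj t).toMonoidHom :=
    sup_le (fun y hy => X8_le (S.T_conj ht 8 hy)) (fun y hy => X0_le (S.T_conj ht 0 hy))
  exact this hx

/-- the torus of the Levi factor -/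
theorem h_mem_LL [Finite F] (d : Fˣ) : S.h (Units.map (σ : F →* F) d) d ∈ LL S := by
  have hinj : Function.Injective (Units.map (σ : F →* F)) := by
    intro a b h
    exact Units.ext (σ.injective (congrArg Units.val h))
  obtain ⟨c, rfl⟩ := Finite.surjective_of_injective hinj d
  rw [map_map σ S.sq]
  have h1 : S.h c (Units.map (σ : F →* F) c) * S.n2 * (S.h c (Units.map (σ : F →* F) c))⁻¹ ∈ LL S :=
    T_conj_LL (S.mem_T.2 ⟨_, _, rfl⟩) n2_mem_LL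
  have h2 := mul_mem h1 (inv_mem n2_mem_LL)
  have e1 : S.h c (Units.map (σ : F →* F) c) * S.n2 * (S.h c (Units.map (σ : F →* F) c))⁻¹ * S.n2⁻¹ =
      S.h c (Units.map (σ : F →* F) c) * (S.n2 * (S.h c (Units.map (σ : F →* F) c))⁻¹ * S.n2⁻¹) := by group
  rw [e1, S.h_inv, S.n2_h, S.h_mul, inv_inv] at h2
  have e2 : (Units.map (σ : F →* F) c)⁻¹ / Units.map (σ : F →* F) c⁻¹ = 1 := by rw [map_inv, div_self']
  rw [e2, mul_one, ← pow_two] at h2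
  exact h2

/-- `h 1 d` centralises the Levi factor -/
theorem h_comm_LL (d : Fˣ) {x : G} (hx : x ∈ LL S) : S.h 1 d * x = x * S.h 1 d := by
  have : LL S ≤ Subgroup.centralizer {S.h 1 d} := by
    refine sup_le ?_ ?_
    · intro y hy
      obtain ⟨p, u, rfl⟩ := (S.mem_XZ_even 4 y).1 hy
      rw [Subgroup.mem_centralizer_singleton_iff]
      have := S.h_e 1 d 4 p u
      rw [chE_four, inv_one, Units.val_one, map_one, one_mul, one_mul, one_mul] at this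
      exact (mul_inv_eq_iff_eq_mul.1 this).symm
    · intro y hy
      obtain ⟨p, u, rfl⟩ := (S.mem_XZ_even 0 y).1 hy
      rw [Subgroup.mem_centralizer_singleton_iff]
      have := S.h_e 1 d 0 p u
      rw [chE_zero, Units.val_one, map_one, one_mul, one_mul, one_mul] at this
      have h2 := (mul_inv_eq_iff_eq_mul.1 this).symm
      push_cast
      exact h2
  exact (Subgroup.mem_centralizer_singleton_iff.1 (this hx)).symm

theorem T_comm {s t : G} (hs : s ∈ S.T) (ht : t ∈ S.T) : s * t = t * s := by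
  obtain ⟨c, d, rfl⟩ := S.mem_T.1 hs
  obtain ⟨c', d', rfl⟩ := S.mem_T.1 ht
  rw [S.h_mul, S.h_mul, mul_comm c, mul_comm d]

/-! ### the reflections `j ↦ -j`, `j ↦ 2 - j` on the torus -/

theorem n4_refl : Refl S.XZ 0 (S.rot ^ (-2 : ℤ) * S.n2 * (S.rot ^ (-2 : ℤ))⁻¹) := by
  have := refl_rot S.n2_refl (-2)
  rwa [show (8 : ℤ) + 4 * -2 = 0 by norm_num] at this

theorem n4_e (a : ZMod 8) (p u : F) : (S.rot ^ (-2 : ℤ) * S.n2 * (S.rot ^ (-2 : ℤ))⁻¹) * S.e a p u *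
    (S.rot ^ (-2 : ℤ) * S.n2 * (S.rot ^ (-2 : ℤ))⁻¹)⁻¹ = S.e (-a) p u := by
  have h1 := S.rotk_e 2 a p u
  have h2 := S.n2_e (a + ((2 : ℤ) : ZMod 8)) p u
  have h3 := S.rotk_e (-2) (4 - (a + ((2 : ℤ) : ZMod 8))) p u
  have e : (4 : ZMod 8) - (a + ((2 : ℤ) : ZMod 8)) + ((-2 : ℤ) : ZMod 8) = -a := by
    have : ∀ a : ZMod 8, (4 : ZMod 8) - (a + ((2 : ℤ) : ZMod 8)) + ((-2 : ℤ) : ZMod 8) = -a := by decide
    exact this a
  rw [e] at h3
  rw [← h3, ← h2, ← h1]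
  group

theorem n5_refl : Refl S.XZ 2 (S.rot ^ (2 : ℤ) * S.n1 * (S.rot ^ (2 : ℤ))⁻¹) := by
  have := refl_rot S.n1_refl 2
  rw [show (10 : ℤ) + 4 * 2 = 2 + 16 by norm_num] at this
  exact refl_per' this

theorem n5_e (a : ZMod 8) (p u : F) : (S.rot ^ (2 : ℤ) * S.n1 * (S.rot ^ (2 : ℤ))⁻¹) * S.e a p u *
    (S.rot ^ (2 : ℤ) * S.n1 * (S.rot ^ (2 : ℤ))⁻¹)⁻¹ = S.e (1 - a) p u := by
  have h1 := S.rotk_e (-2) a p u
  have h2 := S.n1_e (a + ((-2 : ℤ) : ZMod 8)) p u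
  have h3 := S.rotk_e 2 (5 - (a + ((-2 : ℤ) : ZMod 8))) p u
  have e : (5 : ZMod 8) - (a + ((-2 : ℤ) : ZMod 8)) + ((2 : ℤ) : ZMod 8) = 1 - a := by
    have : ∀ a : ZMod 8, (5 : ZMod 8) - (a + ((-2 : ℤ) : ZMod 8)) + ((2 : ℤ) : ZMod 8) = 1 - a := by decide
    exact this a
  rw [e] at h3
  rw [← h3, ← h2, ← h1]
  group

theorem refl_T {c : ℤ} {n t : G} (hn : Refl S.XZ c n) (ht : t ∈ S.T) : n * t * n⁻¹ ∈ S.T := by
  have hr : Rota S 0 t := by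
    intro j x
    rw [zero_add]
    exact (ht _ x).symm
  have h1 := refl_mul hn (rota_refl_mul hr hn.inv)
  rw [zero_add, sub_self, ← mul_assoc] at h1
  exact mem_T_of_rota h1

theorem n4_h (c d : Fˣ) : (S.rot ^ (-2 : ℤ) * S.n2 * (S.rot ^ (-2 : ℤ))⁻¹) * S.h c d *
    (S.rot ^ (-2 : ℤ) * S.n2 * (S.rot ^ (-2 : ℤ))⁻¹)⁻¹ = S.h c (Units.map (σ : F →* F) c / d) := by
  set n := S.rot ^ (-2 : ℤ) * S.n2 * (S.rot ^ (-2 : ℤ))⁻¹ with hn
  have hnr : Refl S.XZ 0 n := n4_refl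
  have hT : n * S.h c d * n⁻¹ ∈ S.T := refl_T hnr (S.mem_T.2 ⟨_, _, rfl⟩)
  have key : ∀ a : ZMod 8, (n * S.h c d * n⁻¹) * S.e a 1 0 * (n * S.h c d * n⁻¹)⁻¹ = S.e a (chE σ (-a) c d) 0 := by
    intro a
    have e2 : n⁻¹ * S.e a 1 0 * n = S.e (-a) 1 0 := by
      have := n4_e (S := S) (-a) 1 0
      rw [neg_neg, ← hn] at this
      rw [← this]; group
    have e1 : (n * S.h c d * n⁻¹) * S.e a 1 0 * (n * S.h c d * n⁻¹)⁻¹ =
        n * (S.h c d * (n⁻¹ * S.e a 1 0 * n) * (S.h c d)⁻¹) * n⁻¹ := by group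
    rw [e1, e2, S.h_e, hn, n4_e, mul_one, mul_zero, neg_neg]
  refine h_eq_of S hT ?_ ?_
  · have := key 0
    rw [neg_zero, chE_zero] at this
    exact this
  · have := key 1
    rw [show -(1 : ZMod 8) = 7 by decide, chE_seven] at this
    exact this

theorem n5_h (c d : Fˣ) : (S.rot ^ (2 : ℤ) * S.n1 * (S.rot ^ (2 : ℤ))⁻¹) * S.h c d *
    (S.rot ^ (2 : ℤ) * S.n1 * (S.rot ^ (2 : ℤ))⁻¹)⁻¹ = S.h d c := by
  set n := S.rot ^ (2 : ℤ) * S.n1 * (S.rot ^ (2 : ℤ))⁻¹ with hn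
  have hnr : Refl S.XZ 2 n := n5_refl
  have hT : n * S.h c d * n⁻¹ ∈ S.T := refl_T hnr (S.mem_T.2 ⟨_, _, rfl⟩)
  have key : ∀ a : ZMod 8, (n * S.h c d * n⁻¹) * S.e a 1 0 * (n * S.h c d * n⁻¹)⁻¹ = S.e a (chE σ (1 - a) c d) 0 := by
    intro a
    have e2 : n⁻¹ * S.e a 1 0 * n = S.e (1 - a) 1 0 := by
      have := n5_e (S := S) (1 - a) 1 0
      rw [sub_sub_cancel, ← hn] at this
      rw [← this]; group
    have e1 : (n * S.h c d * n⁻¹) * S.e a 1 0 * (n * S.h c d * n⁻¹)⁻¹ =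
        n * (S.h c d * (n⁻¹ * S.e a 1 0 * n) * (S.h c d)⁻¹) * n⁻¹ := by group
    rw [e1, e2, S.h_e, hn, n5_e, mul_one, mul_zero, sub_sub_cancel]
  refine h_eq_of S hT ?_ ?_
  · have := key 0
    rw [sub_zero, chE_one] at this
    exact this
  · have := key 1
    rw [sub_self, chE_zero] at this
    exact this

/-- two reflections of the same type differ by the torus -/
theorem refl_conj_T {c : ℤ} {n n' t : G} (hn : Refl S.XZ c n) (hn' : Refl S.XZ c n') (ht : t ∈ S.T) :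
    n * t * n⁻¹ = n' * t * n'⁻¹ := by
  have h1 := refl_mul hn hn'.inv
  rw [sub_self] at h1
  have h2 := mem_T_of_rota h1
  have h3 := refl_T hn' ht
  have h4 := T_comm h2 h3
  have e : n * t * n⁻¹ = (n * n'⁻¹) * (n' * t * n'⁻¹) * (n * n'⁻¹)⁻¹ := by group
  rw [e, h4]; group

theorem refl0_h {n : G} (hn : Refl S.XZ 0 n) (d : Fˣ) : n * S.h 1 d * n⁻¹ = S.h 1 d⁻¹ := by
  rw [refl_conj_T hn n4_refl (S.mem_T.2 ⟨_, _, rfl⟩), n4_h, map_one, one_div]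

theorem refl2_h {n : G} (hn : Refl S.XZ 2 n) (c d : Fˣ) : n * S.h c d * n⁻¹ = S.h d c := by
  rw [refl_conj_T hn n5_refl (S.mem_T.2 ⟨_, _, rfl⟩), n5_h]

/-! ### adjusting the torus part -/

theorem tgt1 [Finite F] {τ : G} (hτ : τ ∈ S.T) (d : Fˣ) : ∃ f e : Fˣ,
    S.h 1 (f * f) * τ = S.h (Units.map (σ : F →* F) e) e * S.h 1 d := by
  obtain ⟨c0, d0, rfl⟩ := S.mem_T.1 hτ
  have hinj : Function.Injective (Units.map (σ : F →* F)) := by
    intro a b h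
    exact Units.ext (σ.injective (congrArg Units.val h))
  obtain ⟨e, he⟩ := Finite.surjective_of_injective hinj c0
  obtain ⟨f', hf'⟩ := Finite.surjective_of_injective hinj (e * d / d0)
  obtain ⟨f, hf⟩ := Finite.surjective_of_injective hinj f'
  refine ⟨f, e, ?_⟩
  have h1 : f * f = e * d / d0 := by
    rw [← pow_two, ← map_map σ S.sq, hf, hf']
  rw [S.h_mul, S.h_mul, one_mul, mul_one, he, h1, div_mul_cancel]

theorem tgt2 [Finite F] {τ : G} (hτ : τ ∈ S.T) (d : Fˣ) : ∃ c e : Fˣ,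
    S.h c c⁻¹ * τ = S.h (Units.map (σ : F →* F) e) e * S.h 1 d := by
  obtain ⟨c0, d0, rfl⟩ := S.mem_T.1 hτ
  obtain ⟨c, hc⟩ := s1_surj S (Units.map (σ : F →* F) d0 / (Units.map (σ : F →* F) d * c0))
  refine ⟨c, d0 / (c * d), ?_⟩
  rw [S.h_mul, S.h_mul, mul_one]
  have k1 : c * c0 = Units.map (σ : F →* F) (d0 / (c * d)) := by
    rw [map_div, map_mul]
    have h2 : Units.map (σ : F →* F) d0 = c * Units.map (σ : F →* F) c * (Units.map (σ : F →* F) d * c0) := by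
      rw [hc, div_mul_cancel]
    rw [h2, eq_div_iff_mul_eq']
    simp only [mul_comm, mul_left_comm, mul_assoc]
  have k2 : c⁻¹ * d0 = d0 / (c * d) * d := by
    rw [div_mul_eq_mul_div, eq_div_iff_mul_eq']
    rw [show c⁻¹ * d0 * (c * d) = (c⁻¹ * c) * (d0 * d) by simp only [mul_comm, mul_left_comm, mul_assoc],
      inv_mul_cancel, one_mul]
  rw [k1, k2]

/-- the target form -/
def GD (S : Full σ G) (d : Fˣ) (g : G) : Prop :=
  ∃ v ∈ J S.XZ 9 15, ∃ l ∈ LL S, ∃ u ∈ J S.XZ 1 7, Cj g (v * (l * S.h 1 d) * u)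

theorem gd_of [Finite F] {g v a τ u : G} {d e : Fˣ} (hv : v ∈ J S.XZ 9 15) (ha : a ∈ LL S)
    (hτ : τ = S.h (Units.map (σ : F →* F) e) e * S.h 1 d) (hu : u ∈ J S.XZ 1 8) (h : Cj g (v * a * τ * u)) :
    GD S d g := by
  obtain ⟨x, hx, u', hu', rfl⟩ := S.zsys8.split_rl (a := 1) (b := 8) (by norm_num) (by norm_num) hu
  have hxL : x ∈ LL S := X8_le hx
  refine ⟨v, hv, a * S.h (Units.map (σ : F →* F) e) e * x, mul_mem (mul_mem ha (h_mem_LL e)) hxL, u', hu', ?_⟩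
  have hc := h_comm_LL d hxL
  rw [hτ] at h
  have e1 : v * a * (S.h (Units.map (σ : F →* F) e) e * S.h 1 d) * (x * u') =
      v * (a * S.h (Units.map (σ : F →* F) e) e * x * S.h 1 d) * u' := by
    calc _ = v * a * S.h (Units.map (σ : F →* F) e) e * (S.h 1 d * x) * u' := by group
      _ = _ := by rw [hc]; group
  rwa [e1] at h

theorem XZ_sub (k : ℤ) : S.XZ (k - 8) = S.XZ (k + 8) := by
  have := XZ_per S (k - 8)
  rw [show k - 8 + 16 = k + 8 by ring] at this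
  exact this.symm

theorem gd_cell16 [Finite F] {g : G} (h : Cell S 16 g) (d : Fˣ) : GD S d g := by
  obtain ⟨n, hn, u, hu, hc⟩ := h
  have hn0 : Refl S.XZ 0 n := refl_per' (by rw [zero_add]; exact hn)
  have hx : S.e 2 0 1 ∈ S.XZ 4 := by have := S.e_mem 2 0 1; push_cast at this; exact this
  have hx1 : S.e 2 0 1 ≠ 1 := fun h => one_ne_zero (S.e_eq_one h).2
  obtain ⟨v, hv, v', hv', hm⟩ := S.zsys8.mu 4 _ hx hx1
  rw [show 2 * (4 : ℤ) - 8 = 0 by norm_num] at hm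
  have hv12 : v ∈ S.XZ 12 := by
    rw [XZ_sub] at hv
    rwa [show (4 : ℤ) + 8 = 12 by norm_num] at hv
  rw [show (4 : ℤ) - 8 = -4 by norm_num] at hv'
  set x := S.e 2 0 1 with hxdef
  obtain ⟨m, hmdef⟩ : ∃ m, m = v * x * v' := ⟨_, rfl⟩
  rw [← hmdef] at hm
  have hτ0 : m * n ∈ S.T := mem_T_of_rota (by have := refl_mul hm hn0; rwa [sub_self] at this)
  obtain ⟨f, e, hfe⟩ := tgt1 hτ0 d
  have hhT : S.h 1 f ∈ S.T := S.mem_T.2 ⟨_, _, rfl⟩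
  have hmh : S.h 1 f * m * (S.h 1 f)⁻¹ = S.h 1 (f * f) * m := by
    have h1 : m * (S.h 1 f)⁻¹ * m⁻¹ = S.h 1 f := by
      have := refl0_h hm f⁻¹
      rwa [inv_inv, show S.h 1 f⁻¹ = (S.h 1 f)⁻¹ by rw [S.h_inv, inv_one]] at this
    calc S.h 1 f * m * (S.h 1 f)⁻¹ = S.h 1 f * (m * (S.h 1 f)⁻¹ * m⁻¹) * m := by group
      _ = S.h 1 (f * f) * m := by rw [h1, S.h_mul, one_mul]
  have k1 : S.h 1 f * v⁻¹ * (S.h 1 f)⁻¹ ∈ S.XZ 12 := S.T_conj hhT 12 (inv_mem hv12)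
  have k2 : S.h 1 f * v'⁻¹ * (S.h 1 f)⁻¹ ∈ S.XZ (-4) := S.T_conj hhT (-4) (inv_mem hv')
  have k3 : n⁻¹ * (S.h 1 f * v'⁻¹ * (S.h 1 f)⁻¹) * n ∈ S.XZ 4 := hn0.mem_inv k2 (by norm_num)
  have k4 : S.h 1 f * x * (S.h 1 f)⁻¹ ∈ S.XZ 4 := S.T_conj hhT 4 hx
  refine gd_of (v := S.h 1 f * v⁻¹ * (S.h 1 f)⁻¹) (a := 1) (τ := S.h 1 (f * f) * (m * n))
    (u := n⁻¹ * (S.h 1 f * v'⁻¹ * (S.h 1 f)⁻¹) * n * u * (S.h 1 f * x * (S.h 1 f)⁻¹)⁻¹)
    (mem_J k1 (by norm_num) (by norm_num)) (one_mem _) hfe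
    (mul_mem (mul_mem (mem_J k3 (by norm_num) (by norm_num)) hu) (inv_mem (mem_J k4 (by norm_num) (by norm_num))))
    (hc.trans ⟨S.h 1 f * x * (S.h 1 f)⁻¹, ?_⟩)
  have e1 : S.h 1 (f * f) * (m * n) = (S.h 1 f * m * (S.h 1 f)⁻¹) * n := by rw [hmh, mul_assoc]
  rw [e1, hmdef]
  group

theorem gd_cell2 [Finite F] {g : G} (h : Cell S 2 g) (d : Fˣ) : GD S d g := by
  obtain ⟨n, hn, u, hu, hc⟩ := h
  have hx : S.o 2 1 ∈ S.XZ 5 := by have := S.o_mem 2 1; push_cast at this; exact this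
  have hx1 : S.o 2 1 ≠ 1 := fun h => one_ne_zero (S.o_eq_one h)
  obtain ⟨v, hv, v', hv', hm⟩ := S.zsys8.mu 5 _ hx hx1
  rw [show 2 * (5 : ℤ) - 8 = 2 by norm_num] at hm
  have hv13 : v ∈ S.XZ 13 := by
    rw [XZ_sub] at hv
    rwa [show (5 : ℤ) + 8 = 13 by norm_num] at hv
  rw [show (5 : ℤ) - 8 = -3 by norm_num] at hv'
  set x := S.o 2 1 with hxdef
  obtain ⟨m, hmdef⟩ : ∃ m, m = v * x * v' := ⟨_, rfl⟩
  rw [← hmdef] at hm
  have hτ0 : m * n ∈ S.T := mem_T_of_rota (by have := refl_mul hm hn; rwa [sub_self] at this)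
  obtain ⟨c, e, hfe⟩ := tgt2 hτ0 d
  have hhT : S.h c 1 ∈ S.T := S.mem_T.2 ⟨_, _, rfl⟩
  have hmh : S.h c 1 * m * (S.h c 1)⁻¹ = S.h c c⁻¹ * m := by
    have h1 : m * (S.h c 1)⁻¹ * m⁻¹ = S.h 1 c⁻¹ := by
      rw [S.h_inv, inv_one, refl2_h hm]
    calc S.h c 1 * m * (S.h c 1)⁻¹ = S.h c 1 * (m * (S.h c 1)⁻¹ * m⁻¹) * m := by group
      _ = S.h c c⁻¹ * m := by rw [h1, S.h_mul, one_mul, mul_one]
  have k1 : S.h c 1 * v⁻¹ * (S.h c 1)⁻¹ ∈ S.XZ 13 := S.T_conj hhT 13 (inv_mem hv13)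
  have k2 : S.h c 1 * v'⁻¹ * (S.h c 1)⁻¹ ∈ S.XZ (-3) := S.T_conj hhT (-3) (inv_mem hv')
  have k3 : n⁻¹ * (S.h c 1 * v'⁻¹ * (S.h c 1)⁻¹) * n ∈ S.XZ 5 := hn.mem_inv k2 (by norm_num)
  have k4 : S.h c 1 * x * (S.h c 1)⁻¹ ∈ S.XZ 5 := S.T_conj hhT 5 hx
  refine gd_of (v := S.h c 1 * v⁻¹ * (S.h c 1)⁻¹) (a := 1) (τ := S.h c c⁻¹ * (m * n))
    (u := n⁻¹ * (S.h c 1 * v'⁻¹ * (S.h c 1)⁻¹) * n * u * (S.h c 1 * x * (S.h c 1)⁻¹)⁻¹)
    (mem_J k1 (by norm_num) (by norm_num)) (one_mem _) hfe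
    (mul_mem (mul_mem (mem_J k3 (by norm_num) (by norm_num)) hu) (inv_mem (mem_J k4 (by norm_num) (by norm_num))))
    (hc.trans ⟨S.h c 1 * x * (S.h c 1)⁻¹, ?_⟩)
  have e1 : S.h c c⁻¹ * (m * n) = (S.h c 1 * m * (S.h c 1)⁻¹) * n := by rw [hmh, mul_assoc]
  rw [e1, hmdef]
  group

/-- `⟨X_0, X_8⟩` and `⟨X_4, X_12⟩` commute -/
theorem comm_04 {x y : G} (hx : x ∈ LL S) (hy : y ∈ S.XZ 4 ⊔ S.XZ (-4)) : x * y = y * x := by
  have c02 : ∀ p u q v, S.e 0 p u * S.e 2 q v = S.e 2 q v * S.e 0 p u := by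
    intro p u q v
    have := S.e_e2 0 p u q v
    rwa [zero_add] at this
  have c24 : ∀ p u q v, S.e 2 p u * S.e 4 q v = S.e 4 q v * S.e 2 p u := by
    intro p u q v
    have := S.e_e2 2 p u q v
    rwa [show (2 : ZMod 8) + 2 = 4 by decide] at this
  have c46 : ∀ p u q v, S.e 4 p u * S.e 6 q v = S.e 6 q v * S.e 4 p u := by
    intro p u q v
    have := S.e_e2 4 p u q v
    rwa [show (4 : ZMod 8) + 2 = 6 by decide] at this
  have c60 : ∀ p u q v, S.e 6 p u * S.e 0 q v = S.e 0 q v * S.e 6 p u := by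
    intro p u q v
    have := S.e_e2 6 p u q v
    rwa [show (6 : ZMod 8) + 2 = 0 by decide] at this
  have hE : ∀ a : ℤ, ∀ y ∈ S.XZ (2 * a), ∃ p u, S.e (a : ZMod 8) p u = y := fun a y hy => (S.mem_XZ_even a y).1 hy
  have h1 : S.XZ 4 ⊔ S.XZ (-4) ≤ Subgroup.centralizer (LL S : Set G) := by
    have key : ∀ y : G, (∀ p u, S.e 0 p u * y = y * S.e 0 p u) → (∀ p u, S.e 4 p u * y = y * S.e 4 p u) →
        y ∈ Subgroup.centralizer (LL S : Set G) := by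
      intro y h0 h4
      rw [Subgroup.mem_centralizer_iff]
      have h2 : LL S ≤ Subgroup.centralizer {y} := by
        refine sup_le ?_ ?_
        · intro z hz
          obtain ⟨p, u, rfl⟩ := hE 4 z hz
          rw [Subgroup.mem_centralizer_singleton_iff]
          exact h4 p u
        · intro z hz
          obtain ⟨p, u, rfl⟩ := hE 0 z hz
          rw [Subgroup.mem_centralizer_singleton_iff]
          have := h0 p u
          push_cast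
          exact this
      intro z hz
      exact Subgroup.mem_centralizer_singleton_iff.1 (h2 hz)
    refine sup_le ?_ ?_
    · intro y hy
      obtain ⟨q, v, rfl⟩ := hE 2 y hy
      exact key _ (fun p u => c02 p u q v) (fun p u => (c24 q v p u).symm)
    · intro y hy
      rw [show (-4 : ℤ) = 2 * -2 by norm_num] at hy
      obtain ⟨q, v, rfl⟩ := hE (-2) y hy
      rw [show (((-2 : ℤ)) : ZMod 8) = 6 by decide]
      exact key _ (fun p u => (c60 q v p u).symm) (fun p u => c46 p u q v)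
  exact Subgroup.mem_centralizer_iff.1 (h1 hy) x hx

theorem gd_co8 [Finite F] {g : G} (h : CO S 8 g) (d : Fˣ) : GD S d g := by
  obtain ⟨n, hn, u, hu, hc⟩ := h
  -- `X_4`
  have hx : S.e 2 0 1 ∈ S.XZ 4 := by have := S.e_mem 2 0 1; push_cast at this; exact this
  have hx1 : S.e 2 0 1 ≠ 1 := fun h => one_ne_zero (S.e_eq_one h).2
  obtain ⟨v, hv, v', hv', hm⟩ := S.zsys8.mu 4 _ hx hx1
  rw [show 2 * (4 : ℤ) - 8 = 0 by norm_num] at hm
  rw [show (4 : ℤ) - 8 = -4 by norm_num] at hv hv'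
  set x := S.e 2 0 1 with hxdef
  obtain ⟨m, hmdef⟩ : ∃ m, m = v * x * v' := ⟨_, rfl⟩
  rw [← hmdef] at hm
  -- `X_8`
  have hy : S.e 4 0 1 ∈ S.XZ 8 := by have := S.e_mem 4 0 1; push_cast at this; exact this
  have hy1 : S.e 4 0 1 ≠ 1 := fun h => one_ne_zero (S.e_eq_one h).2
  obtain ⟨w, hw, w', hw', hk⟩ := S.zsys8.mu 8 _ hy hy1
  rw [show 2 * (8 : ℤ) - 8 = 8 by norm_num] at hk
  rw [show (8 : ℤ) - 8 = 0 by norm_num] at hw hw'
  set y := S.e 4 0 1 with hydef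
  obtain ⟨k, hkdef⟩ : ∃ k, k = w * y * w' := ⟨_, rfl⟩
  rw [← hkdef] at hk
  have hkL : k ∈ LL S := by rw [hkdef]; exact mul_mem (mul_mem (X0_le hw) (X8_le hy)) (X0_le hw')
  have hτ0 : k * m * n ∈ S.T := mem_T_of_rota (by
    have h1 := rota_mul (refl_mul hk hm) hn
    rw [show (8 : ℤ) - 0 + 8 = 0 + 16 by norm_num] at h1
    exact rota_per' h1)
  obtain ⟨f, e, hfe⟩ := tgt1 hτ0 d
  have hhT : S.h 1 f ∈ S.T := S.mem_T.2 ⟨_, _, rfl⟩
  have hmh : S.h 1 f * m * (S.h 1 f)⁻¹ = S.h 1 (f * f) * m := by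
    have h1 : m * (S.h 1 f)⁻¹ * m⁻¹ = S.h 1 f := by
      have := refl0_h hm f⁻¹
      rwa [inv_inv, show S.h 1 f⁻¹ = (S.h 1 f)⁻¹ by rw [S.h_inv, inv_one]] at this
    calc S.h 1 f * m * (S.h 1 f)⁻¹ = S.h 1 f * (m * (S.h 1 f)⁻¹ * m⁻¹) * m := by group
      _ = S.h 1 (f * f) * m := by rw [h1, S.h_mul, one_mul]
  have hkh := h_comm_LL (f * f) hkL
  -- the conjugates by `h 1 f`
  obtain ⟨P, hP⟩ : ∃ P, P = S.h 1 f * v⁻¹ * (S.h 1 f)⁻¹ := ⟨_, rfl⟩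
  obtain ⟨P', hP'⟩ : ∃ P', P' = S.h 1 f * v'⁻¹ * (S.h 1 f)⁻¹ := ⟨_, rfl⟩
  obtain ⟨X, hX⟩ : ∃ X, X = S.h 1 f * x * (S.h 1 f)⁻¹ := ⟨_, rfl⟩
  have k1 : P ∈ S.XZ (-4) := by rw [hP]; exact S.T_conj hhT (-4) (inv_mem hv)
  have k2 : P' ∈ S.XZ (-4) := by rw [hP']; exact S.T_conj hhT (-4) (inv_mem hv')
  have k4 : X ∈ S.XZ 4 := by rw [hX]; exact S.T_conj hhT 4 hx
  have eX : X = P * (S.h 1 (f * f) * m) * P' := by
    rw [← hmh, hP, hP', hX, hmdef]; group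
  have eY : y = w⁻¹ * k * w'⁻¹ := by rw [hkdef]; group
  have k1' : P ∈ J S.XZ 9 15 := by
    have e12 := XZ_per S (-4)
    rw [show (-4 : ℤ) + 16 = 12 by norm_num] at e12
    rw [← e12] at k1
    exact mem_J k1 (by norm_num) (by norm_num)
  have k5 : n⁻¹ * (w'⁻¹ * P') * n ∈ J S.XZ 1 8 := by
    have h1 : n⁻¹ * w'⁻¹ * n ∈ S.XZ 8 := by
      have := (rota_inv hn).mem (inv_mem hw')
      rw [inv_inv] at this
      rw [← XZ_per S (-8 + 0), show (-8 : ℤ) + 0 + 16 = 8 by norm_num] at this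
      exact this
    have h2 : n⁻¹ * P' * n ∈ S.XZ 4 := by
      have := (rota_inv hn).mem k2
      rw [inv_inv] at this
      rw [← XZ_per S (-8 + -4), show (-8 : ℤ) + -4 + 16 = 4 by norm_num] at this
      exact this
    have e1 : n⁻¹ * (w'⁻¹ * P') * n = (n⁻¹ * w'⁻¹ * n) * (n⁻¹ * P' * n) := by group
    rw [e1]
    exact mul_mem (mem_J h1 (by norm_num) le_rfl) (mem_J h2 (by norm_num) (by norm_num))
  have l4 : S.XZ 4 ≤ S.XZ 4 ⊔ S.XZ (-4) := le_sup_left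
  have l4' : S.XZ (-4) ≤ S.XZ 4 ⊔ S.XZ (-4) := le_sup_right
  have hHM : S.h 1 (f * f) * m ∈ S.XZ 4 ⊔ S.XZ (-4) := by
    have e1 : S.h 1 (f * f) * m = P⁻¹ * X * P'⁻¹ := by rw [eX]; group
    rw [e1]
    exact mul_mem (mul_mem (inv_mem (l4' k1)) (l4 k4)) (inv_mem (l4' k2))
  refine gd_of (v := P) (a := w⁻¹) (τ := S.h 1 (f * f) * (k * m * n)) (u := n⁻¹ * (w'⁻¹ * P') * n * u * (y * X)⁻¹)
    k1' (inv_mem (X0_le hw)) hfe
    (mul_mem (mul_mem k5 hu) (inv_mem (mul_mem (mem_J hy (by norm_num) le_rfl) (mem_J k4 (by norm_num) (by norm_num)))))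
    (hc.trans ⟨y * X, ?_⟩)
  -- `y X n u = P w⁻¹ (h k m n) (n⁻¹ w'⁻¹ P' n) u`
  have e1 : y * X = P * w⁻¹ * (S.h 1 (f * f) * (k * m)) * (w'⁻¹ * P') := by
    have c1 : w⁻¹ * k * w'⁻¹ * P = P * (w⁻¹ * k * w'⁻¹) :=
      comm_04 (mul_mem (mul_mem (inv_mem (X0_le hw)) hkL) (inv_mem (X0_le hw'))) (l4' k1)
    have c2 : w'⁻¹ * (S.h 1 (f * f) * m) = (S.h 1 (f * f) * m) * w'⁻¹ := comm_04 (inv_mem (X0_le hw')) hHM
    rw [eX]
    nth_rewrite 1 [eY]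
    calc w⁻¹ * k * w'⁻¹ * (P * (S.h 1 (f * f) * m) * P')
        = (w⁻¹ * k * w'⁻¹ * P) * (S.h 1 (f * f) * m) * P' := by group
      _ = P * w⁻¹ * k * (w'⁻¹ * (S.h 1 (f * f) * m)) * P' := by rw [c1]; group
      _ = P * w⁻¹ * (k * S.h 1 (f * f)) * m * (w'⁻¹ * P') := by rw [c2]; group
      _ = _ := by rw [← hkh]; group
  calc y * X * (n * u) * (y * X)⁻¹ = (P * w⁻¹ * (S.h 1 (f * f) * (k * m)) * (w'⁻¹ * P')) * (n * u) * (y * X)⁻¹ := by
        rw [← e1]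
    _ = _ := by group

/-- **Gauss decomposition with prescribed torus part.** -/
theorem gd [Finite F] {g : G} (hg : g ≠ 1) (d : Fˣ) : GD S d g := by
  rcases long_of_ne (S := S) hg with h | h | h
  · exact gd_cell2 h d
  · exact gd_cell16 h d
  · exact gd_co8 h d

end Cfsg.Agent.H84.GaussTwF4
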