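import Cfsg.Agent.H84.TitsCovChk
import Cfsg.Agent.H246.TitsComp

/-!
# Products of two elements of order five in the Tits group

The elements of order five of `²F₄(2)` are conjugate under the Tits group, and each element of the Tits group in
`W U` (`W` one of three words in the reflections, `U` the Sylow 2-subgroup) is a product of two of them.
-/

set_option autoImplicit false

namespace Cfsg.Agent.H84.TitsCov

open Cfsg.Agent.ChevalleyStructure.Tits.Pack Cfsg.Agent.ChevalleyStructure.Tits.Data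
  Cfsg.Agent.ChevalleyStructure.Tits.Cert Cfsg.Agent.ChevalleyStructure.Tits.Rank2
  Cfsg.Agent.ChevalleyStructure.Tits.Sat Cfsg.Agent.ChevalleyStructure.Tits.Final
  Cfsg.Agent.ChevalleyStructure.Tits.Mat Cfsg.Agent.ChevalleyStructure.Tits.Order
  Cfsg.Agent.ChevalleyStructure.Tits.Table Cfsg.Agent.ChevalleyStructure.Tits.Main
open Cfsg.Agent.H246.TitsComp hiding go go_ok go_zero go_succ_even go_succ_odd sound
open Cfsg.Agent.H84.TitsCovData Cfsg.Agent.H84.TitsCovChk

open scoped MatrixGroups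

/-- an element of order five -/
def O5 (g : H0) : Prop := g ^ 5 = 1 ∧ g ≠ 1

theorem pow5 {G : Type*} [Monoid G] (g : G) : g ^ 5 = ((g * g) * (g * g)) * g := by
  rw [← pow_two, ← pow_two, ← pow_mul, ← pow_succ]

theorem coe_mul_toMat {g h : H0} {a b : ℕ} (hg : ((g : GL I52 (ZMod 2)) : Matrix I52 I52 (ZMod 2)) = toMat a)
    (hh : ((h : GL I52 (ZMod 2)) : Matrix I52 I52 (ZMod 2)) = toMat b) :
    (((g * h : H0) : GL I52 (ZMod 2)) : Matrix I52 I52 (ZMod 2)) = toMat (mulP a b) := by
  rw [Subgroup.coe_mul, Units.val_mul, hg, hh, toMat_mulP]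

theorem O5_of {g : H0} {z : ℕ} (hg : ((g : GL I52 (ZMod 2)) : Matrix I52 I52 (ZMod 2)) = toMat z)
    (h : ord5 z = true) : O5 g := by
  unfold ord5 at h
  rw [Bool.and_eq_true, Bool.not_eq_true'] at h
  have h1 : mulP (mulP (mulP z z) (mulP z z)) z = oneP := Nat.eq_of_beq_eq_true h.1
  constructor
  · apply Subtype.ext
    apply Units.ext
    have e := coe_mul_toMat (coe_mul_toMat (coe_mul_toMat hg hg) (coe_mul_toMat hg hg)) hg
    rw [h1, toMat_oneP] at e
    rw [pow5, e]
    rfl
  · rintro rfl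
    have h2 : toMat z = toMat oneP := by
      rw [← hg, toMat_oneP]; rfl
    have h3 := toMat_inj_mod h2
    rw [Nat.mod_eq_of_lt oneP_lt] at h3
    have h4 : Nat.beq (Nat.mod z (Nat.pow 2 2704)) oneP = true := (Nat.beq_eq ▸ h3 : _)
    rw [h4] at h
    exact absurd h.2 (by decide)

/-! ### words -/

/-- value of a word in `H0` -/
noncomputable def WH (l : List ℕ) : H0 := (l.map yH).prod

theorem WH_append (a b : List ℕ) : WH (a ++ b) = WH a * WH b := by
  unfold WH; rw [List.map_append, List.prod_append]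

theorem coe_WH {l : List ℕ} (h : (l.all fun i => Nat.blt i 10) = true) :
    (((WH l : H0) : GL I52 (ZMod 2)) : Matrix I52 I52 (ZMod 2)) = toMat (evalW l) := by
  rw [List.all_eq_true] at h
  have h10 : ∀ i ∈ l, i < 10 := fun i hi => by have := h i hi; rwa [Nat.blt_eq] at this
  unfold WH
  rw [coe_list l h10, coe_word l (fun i hi => by have := h10 i hi; omega), toMat_evalW]

theorem coe_WH' {l : List ℕ} (h : (l.all fun i => Nat.blt i 10) = true) :
    ((WH l : H0) : GL I52 (ZMod 2)) = (l.map yG).prod := by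
  rw [List.all_eq_true] at h
  exact coe_list l (fun i hi => by have := h i hi; rwa [Nat.blt_eq] at this)

theorem WH_eq {a b : List ℕ} (ha : (a.all fun i => Nat.blt i 10) = true) (hb : (b.all fun i => Nat.blt i 10) = true)
    (h : Nat.beq (evalW a) (evalW b) = true) : WH a = WH b := by
  apply Subtype.ext
  apply Units.ext
  rw [coe_WH ha, coe_WH hb, Nat.eq_of_beq_eq_true h]

/-- the table consists of elements of order five -/
theorem ent_mem {d : ℕ} (hd : d < 155) :
    ∃ y : H0, ((y : GL I52 (ZMod 2)) : Matrix I52 I52 (ZMod 2)) = toMat (ent d) ∧ O5 y := by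
  have h := List.all_eq_true.1 tab_ok d (List.mem_range.2 hd)
  rw [Bool.and_eq_true, Bool.and_eq_true] at h
  obtain ⟨⟨h1, h2⟩, h3⟩ := h
  have h4 : ((WH (tw.getD d []) : GL I52 (ZMod 2)) : Matrix I52 I52 (ZMod 2)) = toMat (ent d) := by
    rw [coe_WH h3, Nat.eq_of_beq_eq_true h1]
  exact ⟨_, h4, O5_of h4 h2⟩

/-! ### the tree -/

theorem go_zero (c k acc idx : ℕ) (par : Bool) : go c 0 k acc idx par = (par || leaf c acc idx) := rfl

theorem go_succ_even (c m k acc idx : ℕ) (par : Bool) (hk : k % 2 = 0) :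
    go c (m + 1) k acc idx par = (go c m (k + 1) acc (idx * 2) par &&
      go c m (k + 1) (mulP acc (LP k)) (idx * 2 + 1) par) := by
  have : Nat.beq (Nat.mod k 2) 0 = true := by
    rw [Nat.beq_eq]; exact hk
  rw [go, this, cond_true]
  rfl

theorem go_succ_odd (c m k acc idx : ℕ) (par : Bool) (hk : k % 2 = 1) :
    go c (m + 1) k acc idx par = (go c m (k + 1) acc (idx * 4) par &&
      (go c m (k + 1) (mulP acc (LP k)) (idx * 4 + 1) (!par) &&
        (go c m (k + 1) (mulP (mulP acc (LP k)) (LP k)) (idx * 4 + 2) par &&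
          go c m (k + 1) (mulP (mulP (mulP acc (LP k)) (LP k)) (LP k)) (idx * 4 + 3) (!par)))) := by
  have : Nat.beq (Nat.mod k 2) 0 = false := by
    rw [Bool.eq_false_iff, Ne, Nat.beq_eq]
    intro h
    have h2 : k % 2 = 0 := h
    omega
  rw [go, this, cond_false]
  rfl

theorem sound (χ : H0 →* ℤˣ) (h0 : ∀ i < 8, i % 2 = 0 → χ (yH i) = 1)
    (h1 : ∀ i < 8, i % 2 = 1 → χ (yH i) = -1) (c : ℕ) :
    ∀ (m k acc idx : ℕ) (par : Bool) (g : H0), k + m = 8 → go c m k acc idx par = true →
      ((g : GL I52 (ZMod 2)) : Matrix I52 I52 (ZMod 2)) = toMat acc → χ g = bs par →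
      ∀ v ∈ V yH k, χ (g * v) = 1 → ∃ y : H0, O5 y ∧ O5 (y * (g * v)) := by
  intro m
  induction m with
  | zero =>
    intro k acc idx par g hk hgo hg hpar v hv hχ
    have hk8 : k = 8 := by omega
    subst hk8
    rw [V_eight, Subgroup.mem_bot] at hv
    subst hv
    rw [mul_one] at hχ ⊢
    rw [go_zero, Bool.or_eq_true] at hgo
    rcases hgo with h | h
    · exfalso
      rw [hpar, h] at hχ
      exact absurd hχ (by decide)
    · unfold leaf at h
      rw [Bool.and_eq_true, Nat.blt_eq] at h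
      obtain ⟨y, hy, hy5⟩ := ent_mem (d := dig c idx) h.1
      exact ⟨y, hy5, O5_of (coe_mul_toMat hy hg) h.2⟩
  | succ m ih =>
    intro k acc idx par g hk hgo hg hpar v hv hχ
    have hk8 : k < 8 := by omega
    obtain ⟨e, he, v', hv', rfl⟩ := mem_V_cases hk8 hv
    have hk1 : k + 1 + m = 8 := by omega
    have hassoc : ∀ x : H0, g * (x * v') = g * x * v' := fun x => (mul_assoc g x v').symm
    rw [hassoc] at hχ ⊢
    rcases Nat.mod_two_eq_zero_or_one k with hpk | hpk
    · have hod : od k = 2 := by unfold od; rw [if_pos hpk]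
      rw [hod] at he
      rw [go_succ_even c m k acc idx par hpk, Bool.and_eq_true] at hgo
      have hy := h0 k hk8 hpk
      have e1 := coe_mul_yH hk8 hg
      interval_cases e
      · rw [pow_zero, mul_one] at hχ ⊢
        exact ih (k + 1) acc _ par g hk1 hgo.1 hg hpar v' hv' hχ
      · rw [pow_one] at hχ ⊢
        exact ih (k + 1) (mulP acc (LP k)) _ par (g * yH k) hk1 hgo.2 e1 (by rw [map_mul, hy, mul_one, hpar]) v' hv' hχ
    · have hod : od k = 4 := by unfold od; rw [if_neg (by omega)]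
      rw [hod] at he
      rw [go_succ_odd c m k acc idx par hpk, Bool.and_eq_true, Bool.and_eq_true, Bool.and_eq_true] at hgo
      have hy := h1 k hk8 hpk
      have e1 := coe_mul_yH hk8 hg
      have e2 := coe_mul_yH hk8 e1
      have e3 := coe_mul_yH hk8 e2
      interval_cases e
      · rw [pow_zero, mul_one] at hχ ⊢
        exact ih (k + 1) acc _ par g hk1 hgo.1 hg hpar v' hv' hχ
      · rw [pow_one] at hχ ⊢
        exact ih (k + 1) (mulP acc (LP k)) _ (!par) (g * yH k) hk1 hgo.2.1 e1 (by rw [map_mul, hy, hpar, bs_not]) v' hv' hχ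
      · have hp : g * yH k ^ 2 = g * yH k * yH k := by rw [pow_two, mul_assoc]
        rw [hp] at hχ ⊢
        refine ih (k + 1) (mulP (mulP acc (LP k)) (LP k)) _ par (g * yH k * yH k) hk1 hgo.2.2.1 e2 ?_ v' hv' hχ
        rw [map_mul, map_mul, hy, hpar, mul_assoc]
        simp
      · have hp : g * yH k ^ 3 = g * yH k * yH k * yH k := by
          rw [pow_succ, pow_two, mul_assoc, mul_assoc, mul_assoc]
        rw [hp] at hχ ⊢
        refine ih (k + 1) (mulP (mulP (mulP acc (LP k)) (LP k)) (LP k)) _ (!par) (g * yH k * yH k * yH k) hk1 hgo.2.2.2 e3 ?_ v' hv' hχ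
        rw [map_mul, map_mul, map_mul, hy, hpar, bs_not, mul_assoc, mul_assoc]
        simp

/-- the sign on the reflections -/
theorem sign_refl (χ : H0 →* ℤˣ) (h0 : ∀ i < 8, i % 2 = 0 → χ (yH i) = 1)
    (h1 : ∀ i < 8, i % 2 = 1 → χ (yH i) = -1) : χ (yH 8) = 1 ∧ χ (yH 9) = 1 := by
  constructor
  · have h := Sat_yH ([8, 0, 8], [0, 8, 0]) (by decide +kernel)
    simp only [List.map_cons, List.map_nil, List.prod_cons, List.prod_nil, mul_one] at h
    have h2 := congrArg χ h
    rw [map_mul, map_mul, map_mul, map_mul, h0 0 (by norm_num) (by norm_num), one_mul, mul_one, one_mul] at h2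
    exact mul_eq_left.1 h2
  · have h := Sat_yH ([9, 7, 9], [7, 9, 7, 7]) (by decide +kernel)
    simp only [List.map_cons, List.map_nil, List.prod_cons, List.prod_nil, mul_one] at h
    have h2 := congrArg χ h
    rw [map_mul, map_mul, map_mul, map_mul, map_mul, h1 7 (by norm_num) (by norm_num)] at h2
    rcases Int.units_eq_one_or (χ (yH 9)) with h3 | h3
    · exact h3
    · rw [h3] at h2
      exact absurd h2 (by decide)

/-- the three words -/
def ww : List (List ℕ) := [[9, 8, 9, 8, 9, 8, 9], [8, 9, 8, 9, 8, 9, 8], [8, 9, 8, 9, 8, 9, 8, 9]]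

theorem cover_word (χ : H0 →* ℤˣ) (h0 : ∀ i < 8, i % 2 = 0 → χ (yH i) = 1)
    (h1 : ∀ i < 8, i % 2 = 1 → χ (yH i) = -1) {w : List ℕ} (hw : w ∈ ww) {v : H0} (hv : v ∈ V yH 0)
    (hχ : χ (WH w * v) = 1) : ∃ y : H0, O5 y ∧ O5 (y * (WH w * v)) := by
  obtain ⟨h8, h9⟩ := sign_refl χ h0 h1
  have key : ∀ (w : List ℕ) (c : ℕ), (w.all fun i => Nat.blt i 10) = true → (∀ i ∈ w, i = 8 ∨ i = 9) →
      go c 8 0 (evalW w) 0 false = true → χ (WH w * v) = 1 → ∃ y : H0, O5 y ∧ O5 (y * (WH w * v)) := by
    intro w c hw h89 hgo hχ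
    have hs : ∀ w : List ℕ, (∀ i ∈ w, i = 8 ∨ i = 9) → χ (WH w) = 1 := by
      intro w
      induction w with
      | nil => intro _; unfold WH; simp
      | cons a w ih =>
        intro h
        have h2 := ih fun i hi => h i (List.mem_cons_of_mem a hi)
        unfold WH at h2 ⊢
        rw [List.map_cons, List.prod_cons, map_mul, h2, mul_one]
        rcases h a List.mem_cons_self with rfl | rfl
        · exact h8
        · exact h9
    exact sound χ h0 h1 c 8 0 (evalW w) 0 false (WH w) rfl hgo (coe_WH hw) (hs w h89) v hv hχ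
  unfold ww at hw
  simp only [List.mem_cons, List.not_mem_nil, or_false] at hw
  rcases hw with rfl | rfl | rfl
  · exact key _ _ (by decide) (by decide) go0_ok hχ
  · exact key _ _ (by decide) (by decide) go1_ok hχ
  · exact key _ _ (by decide) (by decide) go2_ok hχ

end Cfsg.Agent.H84.TitsCov
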