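import Cfsg.Agent.H84.TitsCovData

/-! Kernel computation: products of two elements of order five in `²F₄(2)`. -/

set_option autoImplicit false

namespace Cfsg.Agent.H84.TitsCovChk

open Cfsg.Agent.ChevalleyStructure.Tits.Pack Cfsg.Agent.ChevalleyStructure.Tits.Data
open Cfsg.Agent.H84.TitsCovData

/-- packed matrix of order five -/
def ord5 (z : ℕ) : Bool :=
  Nat.beq (mulP (mulP (mulP z z) (mulP z z)) z) oneP && !(Nat.beq (Nat.mod z (Nat.pow 2 2704)) oneP)

/-- entry of the table -/
def ent (d : ℕ) : ℕ := Nat.mod (Nat.shiftRight TAB (Nat.mul 2704 d)) (Nat.pow 2 2704)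

/-- the digit of a certificate -/
def dig (c idx : ℕ) : ℕ := Nat.mod (Nat.shiftRight c (Nat.mul 8 idx)) 256

/-- check of a leaf -/
def leaf (c acc idx : ℕ) : Bool := Nat.blt (dig c idx) NT && ord5 (mulP (ent (dig c idx)) acc)

/-- tree of all the words -/
def go (c : ℕ) : ℕ → ℕ → ℕ → ℕ → Bool → Bool
  | 0, _, acc, idx, par => par || leaf c acc idx
  | m + 1, k, acc, idx, par =>
    bif Nat.beq (Nat.mod k 2) 0 then
      go c m (Nat.succ k) acc (Nat.mul idx 2) par &&
        go c m (Nat.succ k) (mulP acc (LP k)) (Nat.add (Nat.mul idx 2) 1) par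
    else
      go c m (Nat.succ k) acc (Nat.mul idx 4) par &&
        (go c m (Nat.succ k) (mulP acc (LP k)) (Nat.add (Nat.mul idx 4) 1) (!par) &&
        (go c m (Nat.succ k) (mulP (mulP acc (LP k)) (LP k)) (Nat.add (Nat.mul idx 4) 2) par &&
          go c m (Nat.succ k) (mulP (mulP (mulP acc (LP k)) (LP k)) (LP k)) (Nat.add (Nat.mul idx 4) 3) (!par)))

theorem go0_ok : go CERT0 8 0 (evalW [9, 8, 9, 8, 9, 8, 9]) 0 false = true := by decide +kernel

theorem go1_ok : go CERT1 8 0 (evalW [8, 9, 8, 9, 8, 9, 8]) 0 false = true := by decide +kernel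

theorem go2_ok : go CERT2 8 0 (evalW [8, 9, 8, 9, 8, 9, 8, 9]) 0 false = true := by decide +kernel

theorem tab_ok : ((List.range 155).all fun d => Nat.beq (evalW (tw.getD d [])) (ent d) && ord5 (ent d) &&
    (tw.getD d []).all fun i => Nat.blt i 10) = true := by decide +kernel

/-- word of `x₁ ^ i * x₂ ^ j` -/
def pw (i j : ℕ) : List ℕ := (List.replicate i [9, 7, 7]).flatten ++ (List.replicate j [8, 9, 8, 9, 7, 7, 8, 9, 8]).flatten

theorem fus_ok : (fus.all fun c => Nat.beq (evalW (c.2.2 ++ [9, 7, 7])) (evalW (pw c.1 c.2.1 ++ c.2.2)) &&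
    c.2.2.all fun i => Nat.blt i 10) = true := by decide +kernel

theorem fus_all : ((List.range 5).all fun i => (List.range 5).all fun j => (i == 0 && j == 0) ||
    fus.any fun c => c.1 == i && c.2.1 == j) = true := by decide +kernel

theorem comm_ok : Nat.beq (evalW [3, 9, 7, 7]) (evalW [9, 7, 7, 3]) = true := by decide +kernel

end Cfsg.Agent.H84.TitsCovChk
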